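import Groth.Agent.ThetaLib.Points

/-!
The commutator function of two points with local lifts to the theta group.
-/

set_option autoImplicit false
set_option backward.isDefEq.respectTransparency false
set_option backward.isDefEq.respectTransparency.types false
set_option linter.style.haveILetI false

universe u

open CategoryTheory CategoryTheory.Limits MonoidalCategory CartesianMonoidalCategory MonObj AlgebraicGeometry
open ThetaGrp (thetaPts IsOverPt IsBaseChange)

noncomputable section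

namespace Groth.Agent.ThetaLib

variable {S : Scheme.{u}} {A : Over S} [GrpObj A] {L : A.left.Modules}

/-- An open piece of an object over the base. -/
abbrev opn (T : Over S) (U : T.left.Opens) : Over S := Over.mk (U.ι ≫ T.hom)

/-- Its inclusion. -/
abbrev opnι (T : Over S) (U : T.left.Opens) : opn T U ⟶ T := Over.homMk U.ι rfl

/-- The point lifts to the theta group near every point of its source. -/
def LocLift (L : A.left.Modules) {T : Over S} (x : T ⟶ A) : Prop :=
  ∀ t : T.left, ∃ U : T.left.Opens, t ∈ U ∧ ∃ β : thetaPts A L (opn T U), IsOverPt β (opnι T U ≫ x)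

omit [GrpObj A] in
/-- Functions which agree on a covering by pieces are equal. -/
theorem fn_ext {T : Over S} {a b : Γ(T.left, ⊤)}
    (h : ∀ t : T.left, ∃ U : T.left.Opens, t ∈ U ∧ U.ι.appTop a = U.ι.appTop b) : a = b := by
  choose U hU hab using h
  refine TopCat.Sheaf.eq_of_locally_eq' T.left.sheaf U ⊤ (fun x => homOfLE le_top)
    (fun x _ => TopologicalSpace.Opens.mem_iSup.mpr ⟨x, hU x⟩) a b fun x => ?_
  have e := congrArg (U x).topIso.hom (hab x)
  simp only [Scheme.Opens.topIso_hom, Scheme.Opens.ι_appTop, ← ConcreteCategory.comp_apply, ← Functor.map_comp] at e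
  exact e

omit [GrpObj A] in
/-- Restrictions compose. -/
theorem map_map {X : Scheme.{u}} {U V W : (TopologicalSpace.Opens X)ᵒᵖ} (i : U ⟶ V) (j : V ⟶ W) (s : X.presheaf.obj U) :
    X.presheaf.map j (X.presheaf.map i s) = X.presheaf.map (i ≫ j) s := by
  rw [Functor.map_comp]
  rfl

variable (hL : PicF.IsInvertible L) (hΓ : ∀ T : Over S, Function.Surjective (fnT A T))

include hL hΓ in
/-- Two base changes of commutators of the same pair of points agree. -/
theorem com_compat {T V W V' : Over S} {x y : T ⟶ A} {g : V ⟶ T} {w : W ⟶ T} (h : V' ⟶ V) (h' : V' ⟶ W)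
    (hh : h ≫ g = h' ≫ w) {α β : thetaPts A L V} (hα : IsOverPt α (g ≫ x)) (hβ : IsOverPt β (g ≫ y))
    {α₀ β₀ : thetaPts A L W} (hα₀ : IsOverPt α₀ (w ≫ x)) (hβ₀ : IsOverPt β₀ (w ≫ y))
    {s : Γ(V.left, ⊤)} (hs : IsCom α β s) {t : Γ(W.left, ⊤)} (ht : IsCom α₀ β₀ t) :
    h.left.appTop s = h'.left.appTop t := by
  obtain ⟨a, ha, hax⟩ := exists_bc h hα
  obtain ⟨b, hb, hby⟩ := exists_bc h hβ
  obtain ⟨a', ha', hax'⟩ := exists_bc h' hα₀
  obtain ⟨b', hb', hby'⟩ := exists_bc h' hβ₀
  rw [← reassoc_of% hh] at hax' hby'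
  exact isCom_unique hL (isCom_bc ha hb hs) (isCom_indep hL hΓ hax' hax hby' hby (isCom_bc ha' hb' ht))

variable [IsCommMonObj A]

include hL hΓ in
/-- The commutator function of two points with local lifts. -/
theorem exists_comFn {T : Over S} {x y : T ⟶ A} (hx : LocLift L x) (hy : LocLift L y) :
    ∃ c : Γ(T.left, ⊤), ∀ (V : Over S) (g : V ⟶ T) (α β : thetaPts A L V), IsOverPt α (g ≫ x) →
      IsOverPt β (g ≫ y) → IsCom α β (g.left.appTop c) := by
  have hloc : ∀ t : T.left, ∃ W : T.left.Opens, t ∈ W ∧ ∃ α β : thetaPts A L (opn T W),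
      IsOverPt α (opnι T W ≫ x) ∧ IsOverPt β (opnι T W ≫ y) := fun t => by
    obtain ⟨U, htU, a, ha⟩ := hx t
    obtain ⟨U', htU', b, hb⟩ := hy t
    let r : opn T (U ⊓ U') ⟶ opn T U := Over.homMk (T.left.homOfLE inf_le_left) (by simp)
    let r' : opn T (U ⊓ U') ⟶ opn T U' := Over.homMk (T.left.homOfLE inf_le_right) (by simp)
    obtain ⟨α, -, hα⟩ := exists_bc r ha
    obtain ⟨β, -, hβ⟩ := exists_bc r' hb
    have e : r ≫ opnι T U = opnι T (U ⊓ U') := Over.OverMorphism.ext (T.left.homOfLE_ι (inf_le_left : U ⊓ U' ≤ U))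
    have e' : r' ≫ opnι T U' = opnι T (U ⊓ U') := Over.OverMorphism.ext (T.left.homOfLE_ι (inf_le_right : U ⊓ U' ≤ U'))
    rw [reassoc_of% e] at hα
    rw [reassoc_of% e'] at hβ
    exact ⟨U ⊓ U', ⟨htU, htU'⟩, α, β, hα, hβ⟩
  choose W htW α₀ β₀ hα₀ hβ₀ using hloc
  choose s hs using fun t => exists_com hL hΓ (α₀ t) (β₀ t)
  let σ : ∀ t, Γ(T.left, W t) := fun t => (W t).topIso.hom (s t)
  have hσ : ∀ t, (W t).topIso.inv (σ t) = s t := fun t => (W t).topIso.hom_inv_id_apply (s t)
  obtain ⟨c, hc, -⟩ := TopCat.Sheaf.existsUnique_gluing' T.left.sheaf W ⊤ (fun x => homOfLE le_top)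
    (fun x _ => TopologicalSpace.Opens.mem_iSup.mpr ⟨x, htW x⟩) σ (fun a b => by
      let r : opn T (W a ⊓ W b) ⟶ opn T (W a) := Over.homMk (T.left.homOfLE inf_le_left) (by simp)
      let r' : opn T (W a ⊓ W b) ⟶ opn T (W b) := Over.homMk (T.left.homOfLE inf_le_right) (by simp)
      have e : r ≫ opnι T (W a) = r' ≫ opnι T (W b) :=
        Over.OverMorphism.ext ((T.left.homOfLE_ι (inf_le_left : W a ⊓ W b ≤ W a)).trans
          (T.left.homOfLE_ι (inf_le_right : W a ⊓ W b ≤ W b)).symm)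
      have h := congrArg (W a ⊓ W b).topIso.hom
        (com_compat hL hΓ r r' e (hα₀ a) (hβ₀ a) (hα₀ b) (hβ₀ b) (hs a) (hs b))
      change T.left.presheaf.map (homOfLE (inf_le_left : W a ⊓ W b ≤ W a)).op (σ a) =
        T.left.presheaf.map (homOfLE (inf_le_right : W a ⊓ W b ≤ W b)).op (σ b)
      simp only [σ, r, r', Over.homMk_left, Scheme.Opens.topIso_hom] at h ⊢
      erw [Scheme.homOfLE_appTop, Scheme.homOfLE_appTop] at h
      erw [map_map, map_map] at h ⊢
      exact h)
  have hcW : ∀ t, (W t).ι.appTop c = s t := fun t => by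
    have h := congrArg (W t).topIso.inv (hc t)
    rw [hσ] at h
    refine Eq.trans ?_ h
    change _ = (W t).topIso.inv (T.left.presheaf.map (homOfLE (le_top : W t ≤ ⊤)).op c)
    simp only [Scheme.Opens.ι_appTop, Scheme.Opens.topIso_inv, ← ConcreteCategory.comp_apply, ← Functor.map_comp]
    rfl
  refine ⟨c, fun V g α β hα hβ => ?_⟩
  obtain ⟨d, hd⟩ := exists_com hL hΓ α β
  suffices d = g.left.appTop c from this ▸ hd
  refine fn_ext fun v => ⟨g.left ⁻¹ᵁ W (g.left v), htW (g.left v), ?_⟩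
  let V' := opn V (g.left ⁻¹ᵁ W (g.left v))
  let h' : V' ⟶ opn T (W (g.left v)) := Over.homMk (g.left ∣_ W (g.left v)) (by
    change (g.left ∣_ W (g.left v)) ≫ (W (g.left v)).ι ≫ T.hom = (g.left ⁻¹ᵁ W (g.left v)).ι ≫ V.hom
    rw [← Category.assoc, morphismRestrict_ι, Category.assoc, Over.w g])
  have e : opnι V (g.left ⁻¹ᵁ W (g.left v)) ≫ g = h' ≫ opnι T (W (g.left v)) :=
    Over.OverMorphism.ext (morphismRestrict_ι _ _).symm
  have := com_compat hL hΓ (opnι V (g.left ⁻¹ᵁ W (g.left v))) h' e hα hβ (hα₀ _) (hβ₀ _) hd (hs _)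
  refine this.trans ?_
  rw [← hcW]
  change ((W (g.left v)).ι.appTop ≫ (g.left ∣_ W (g.left v)).appTop) c =
    (g.left.appTop ≫ (g.left ⁻¹ᵁ W (g.left v)).ι.appTop) c
  rw [← Scheme.Hom.comp_appTop, ← Scheme.Hom.comp_appTop, morphismRestrict_ι]

end Groth.Agent.ThetaLib
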