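import Groth.Agent.ThetaLib.Points
import Groth.Agent.AVAmple.Mumford
import Groth.Agent.LBDesc.SectionApp
import Groth.Agent.W7See.Trivial
import Mathlib.AlgebraicGeometry.Group.Smooth
import Mathlib.AlgebraicGeometry.Gluing

/-!
Theta points of an abelian variety exist locally over the points of `K(L)`.
-/

set_option autoImplicit false
set_option backward.isDefEq.respectTransparency false
set_option backward.isDefEq.respectTransparency.types false
set_option linter.style.haveILetI false

universe u

open CategoryTheory CategoryTheory.Limits MonoidalCategory CartesianMonoidalCategory MonObj AlgebraicGeometry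
open ThetaGrp (transl thetaObj thetaPts IsOverPt transl_fst)
open Groth.Agent.W7Cube (pull pull_pull pull_cls pc pull_pc)

noncomputable section

namespace Groth.Agent.ThetaLib

attribute [local instance] W7Cube.law

variable {k : Type u} [Field k] {A : Over (Spec (CommRingCat.of k))} [GrpObj A]

variable [IsProper A.hom] [GeometricallyIntegral A.hom]

/-- Functions on `A × T` come from `T`. -/
theorem fnT_surjective (T : Over (Spec (CommRingCat.of k))) : Function.Surjective (fnT A T) := by
  haveI : GeometricallyConnected A.hom := W7See.geometricallyConnected_of_geometricallyIntegral A.hom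
  haveI : Smooth A.hom := by
    haveI : GrpObj (Over.mk A.hom) := inferInstanceAs (GrpObj A)
    exact smooth_of_grpObj A.hom
  haveI := LBDesc.isIso_XTproj_app A.hom η[A].left (Over.w η[A]) T ⊤
  exact (ConcreteCategory.bijective_of_isIso ((PicF.XTproj A.hom T).app ⊤)).2

omit [IsProper A.hom] [GeometricallyIntegral A.hom] in
theorem pull_mum {Z T : Over (Spec (CommRingCat.of k))} (c : PicLoc.PicSet A.left) (z : Z ⟶ A) (x : T ⟶ Z) :
    pull (A ◁ x).left (AVAmple.mum c z) = AVAmple.mum c (x ≫ z) := by
  rw [AVAmple.mum, AVAmple.mum, map_mul, map_inv, map_mul, pull_pc, pull_pc, pull_pc, MonObj.comp_mul,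
    whiskerLeft_fst, whiskerLeft_snd_assoc]

/-- The inclusion of an open piece. -/
abbrev piece {T : Over (Spec (CommRingCat.of k))} (U : T.left.Opens) : Over (Spec (CommRingCat.of k)) :=
  Over.mk (U.ι ≫ T.hom)

/-- The inclusion of an open piece, over the base. -/
abbrev pieceι {T : Over (Spec (CommRingCat.of k))} (U : T.left.Opens) : piece U ⟶ T := Over.homMk U.ι rfl

omit [IsProper A.hom] [GeometricallyIntegral A.hom] in
/-- A point with trivial Mumford bundle and trivial restriction of the module lifts. -/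
theorem exists_lift_pt {L : A.left.Modules} (hL : PicF.IsInvertible L) {V : Over (Spec (CommRingCat.of k))}
    (x : V ⟶ A) (hm : AVAmple.mum (PicGrp.cls L hL) x = 1) (hc : pc (PicGrp.cls L hL) x = 1) :
    ∃ β : thetaPts A L V, IsOverPt β x := by
  have h : pc (PicGrp.cls L hL) (fst A V * (snd A V ≫ x)) = pc (PicGrp.cls L hL) (fst A V) := by
    have h1 : pc (PicGrp.cls L hL) (snd A V ≫ x) = 1 := by
      rw [← pull_pc (A := A), hc, map_one]
    rwa [AVAmple.mum, h1, _root_.mul_one, mul_inv_eq_one] at hm
  rw [← transl_fst (A := A), pc, pc, pull_cls, pull_cls, PicGrp.cls_eq_cls_iff] at h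
  obtain ⟨e⟩ := h
  exact exists_of_iso x (e.symm ≪≫ ((Scheme.Modules.pullbackComp (transl A x).left (fst A V).left).symm.app L))

omit [IsProper A.hom] [GeometricallyIntegral A.hom] in
/-- A lift makes the Mumford bundle trivial. -/
theorem isMumfordTriv_of_lift {L : A.left.Modules} (hL : PicF.IsInvertible L) {V : Over (Spec (CommRingCat.of k))}
    {x : V ⟶ A} {β : thetaPts A L V} (hβ : IsOverPt β x) : ThetaGrp.IsMumfordTriv A L x := by
  rw [AVAmple.isMumfordTriv_iff L hL]
  obtain ⟨⟨e, hp⟩, rfl⟩ : ∃ α : thetaPts A L V, α = β := ⟨β, rfl⟩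
  haveI : IsIso (fib e.hom) := isIso_fib_of_iso e
  have h : pc (PicGrp.cls L hL) (fst A V * (snd A V ≫ x)) = pc (PicGrp.cls L hL) (fst A V) := by
    rw [← transl_fst (A := A), pc, pc, pull_cls, pull_cls, PicGrp.cls_eq_cls_iff]
    have hb : e.hom.base = (transl A x).left := hβ
    exact ⟨((asIso (fib e.hom)) ≪≫ (Scheme.Modules.pullbackCongr hb).app _ ≪≫
      (Scheme.Modules.pullbackComp (transl A x).left (fst A V).left).app L).symm⟩
  refine ⟨(pc (PicGrp.cls L hL) x)⁻¹, ?_⟩
  rw [map_inv, pull_pc (A := A), AVAmple.mum, h, _root_.mul_inv_rev, _root_.mul_comm _ (pc _ (fst A V))⁻¹,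
    ← _root_.mul_assoc, mul_inv_cancel, _root_.one_mul]

omit [IsProper A.hom] [GeometricallyIntegral A.hom] in
/-- Theta points exist locally over a point with trivial Mumford bundle. -/
theorem exists_local {L : A.left.Modules} (hL : PicF.IsInvertible L) {T : Over (Spec (CommRingCat.of k))} (x : T ⟶ A)
    (hx : ThetaGrp.IsMumfordTriv A L x) (t : T.left) :
    ∃ U : T.left.Opens, t ∈ U ∧ ∃ β : thetaPts A L (piece U), IsOverPt β (pieceι U ≫ x) := by
  obtain ⟨d, hd⟩ := (AVAmple.isMumfordTriv_iff L hL x).1 hx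
  have hm := AVAmple.mum_eq_one_of_pullback _ _ d hd
  obtain ⟨U, htU, ⟨e⟩⟩ := PicLoc.isInvertible_pullback x.left hL t
  refine ⟨U, htU, exists_lift_pt hL _ ?_ ?_⟩
  · rw [← pull_mum, hm, map_one]
  · rw [← pull_pc (A := A), pc, pull_cls, pull_cls, PicGrp.cls_eq_one_iff]
    exact ⟨((Scheme.Modules.restrictFunctorIsoPullback U.ι).app _).symm ≪≫ e⟩

omit [IsProper A.hom] [GeometricallyIntegral A.hom] in
/-- A point which factors locally through a monomorphism factors. -/
theorem exists_factor_of_local {K T : Over (Spec (CommRingCat.of k))} (i : K ⟶ A) [Mono i.left] (x : T ⟶ A)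
    (h : ∀ t : T.left, ∃ U : T.left.Opens, t ∈ U ∧ ∃ y : piece U ⟶ K, y ≫ i = pieceι U ≫ x) :
    ∃ y : T ⟶ K, y ≫ i = x := by
  choose U hU y hy using h
  have hcov : TopologicalSpace.IsOpenCover U := TopologicalSpace.IsOpenCover.mk (top_le_iff.1 fun t _ =>
    TopologicalSpace.Opens.mem_iSup.mpr ⟨t, hU t⟩)
  let 𝒰 := T.left.openCoverOfIsOpenCover U hcov
  have hy' : ∀ t, (y t).left ≫ i.left = 𝒰.f t ≫ x.left := fun t => congrArg CommaMorphism.left (hy t)
  let g : T.left ⟶ K.left := 𝒰.glueMorphisms (fun t => (y t).left) fun a b => by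
    rw [← cancel_mono i.left, Category.assoc, Category.assoc, hy', hy', pullback.condition_assoc]
  have hg : g ≫ i.left = x.left := 𝒰.hom_ext _ _ fun t => by
    rw [← Category.assoc, Scheme.Cover.ι_glueMorphisms, hy']
  exact ⟨Over.homMk g (by rw [← Over.w i, ← Category.assoc, hg]; exact Over.w x), Over.OverMorphism.ext hg⟩

end Groth.Agent.ThetaLib
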