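import Groth.Agent.ThetaLib.Points

/-!
Inverse images of points of theta groups along a homomorphism.
-/

set_option autoImplicit false
set_option backward.isDefEq.respectTransparency false
set_option backward.isDefEq.respectTransparency.types false
set_option linter.style.haveILetI false

universe u

open CategoryTheory CategoryTheory.Limits MonoidalCategory CartesianMonoidalCategory MonObj AlgebraicGeometry
open ThetaGrp (transl thetaObj thetaPts IsOverPt transl_fst transl_snd)

noncomputable section

namespace Groth.Agent.ThetaLib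

variable {S : Scheme.{u}} {A B : Over S} [GrpObj A] [GrpObj B] {L : B.left.Modules} {T : Over S}

/-- The morphism `(A × T, (f^*L)_T) ⟶ (B × T, L_T)`. -/
def plMap (f : A ⟶ B) (L : B.left.Modules) (T : Over S) :
    (thetaObj A ((Scheme.Modules.pullback f.left).obj L) T : Obj.{u}) ⟶ thetaObj B L T :=
  mk' (f ▷ T).left ((Scheme.Modules.pullbackComp (fst A T).left f.left).hom.app L ≫
    (Scheme.Modules.pullbackCongr (by rw [← Over.comp_left, ← Over.comp_left, whiskerRight_fst])).hom.app L ≫
    (Scheme.Modules.pullbackComp (f ▷ T).left (fst B T).left).inv.app L)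

instance isIso_fib_plMap (f : A ⟶ B) (L : B.left.Modules) (T : Over S) : IsIso (fib (plMap f L T)) := by
  unfold plMap
  infer_instance

omit [GrpObj A] [GrpObj B] in
theorem fnT_plMap (f : A ⟶ B) (t : Γ(T.left, ⊤)) : (f ▷ T).left.appTop (fnT B T t) = fnT A T t := by
  change ((snd B T).left.appTop ≫ (f ▷ T).left.appTop) t = _
  rw [← Scheme.Hom.comp_appTop, ← Over.comp_left, whiskerRight_snd]
  rfl

variable (f : A ⟶ B) [IsMonHom f]

theorem transl_pl (x : T ⟶ A) : transl A x ≫ f ▷ T = f ▷ T ≫ transl B (x ≫ f) := by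
  apply CartesianMonoidalCategory.hom_ext
  · rw [Category.assoc, Category.assoc, whiskerRight_fst, transl_fst, reassoc_of% (transl_fst A x),
      MonObj.mul_comp, MonObj.comp_mul, whiskerRight_fst, whiskerRight_snd_assoc, Category.assoc]
  · rw [Category.assoc, Category.assoc, whiskerRight_snd, transl_snd, transl_snd, whiskerRight_snd]

/-- The inverse image of a point, as a relation. -/
def IsPull (β' : thetaPts A ((Scheme.Modules.pullback f.left).obj L) T) (β : thetaPts B L T) : Prop :=
  hm β' ≫ plMap f L T = plMap f L T ≫ hm β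

theorem exists_pull {β : thetaPts B L T} {x : T ⟶ A} (hx : IsOverPt β (x ≫ f)) :
    ∃ β' : thetaPts A ((Scheme.Modules.pullback f.left).obj L) T, IsPull f β' β ∧ IsOverPt β' x := by
  obtain ⟨k, hk, hkφ⟩ := exists_lift (plMap f L T) (plMap f L T ≫ hm β) (transl A x).left (by
    change _ ≫ (f ▷ T).left = (f ▷ T).left ≫ (hm β).base
    rw [show (hm β).base = _ from hx, ← Over.comp_left, transl_pl, Over.comp_left])
  haveI : IsIso (fib (plMap f L T ≫ hm β)) := isIso_fib_comp _ _
  haveI : IsIso (fib (k ≫ plMap f L T)) := isIso_fib_congr hkφ.symm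
  haveI : IsIso (fib k) := by
    have h : IsIso (fib (k ≫ plMap f L T)) := inferInstance
    rw [fib_comp] at h
    exact IsIso.of_isIso_comp_right (fib k) ((Scheme.Modules.pullback k.base).map (fib (plMap f L T)) ≫
      (Scheme.Modules.pullbackComp k.base (plMap f L T).base).hom.app (md (thetaObj B L T : Obj.{u})))
  obtain ⟨β', hβ, hβx⟩ := exists_of_hom (L := (Scheme.Modules.pullback f.left).obj L) x k hk
  exact ⟨β', by rw [IsPull, hβ, hkφ], hβx⟩

theorem isPull_mul {α' β' : thetaPts A ((Scheme.Modules.pullback f.left).obj L) T} {α β : thetaPts B L T}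
    (hα : IsPull f α' α) (hβ : IsPull f β' β) : IsPull f (α' * β') (α * β) := by
  rw [IsPull] at hα hβ ⊢
  rw [hm_mul, hm_mul, Category.assoc, hα, ← Category.assoc, hβ, Category.assoc]

theorem isPull_unique {α' β' : thetaPts A ((Scheme.Modules.pullback f.left).obj L) T} {β : thetaPts B L T}
    {x : T ⟶ A} (hα : IsPull f α' β) (hβ : IsPull f β' β) (hαx : IsOverPt α' x) (hβx : IsOverPt β' x) : α' = β' :=
  pts_ext (cancel_cart (plMap f L T) (hαx.trans hβx.symm) (hα.trans hβ.symm))

variable [IsCommMonObj A]

theorem isCom_pull {α' β' : thetaPts A ((Scheme.Modules.pullback f.left).obj L) T} {α β : thetaPts B L T}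
    (hα : IsPull f α' α) (hβ : IsPull f β' β) {t : Γ(T.left, ⊤)} (h : IsCom α β t) : IsCom α' β' t := by
  refine cancel_cart (plMap f L T) ?_ ?_
  · obtain ⟨x, hx⟩ := exists_pt α'
    obtain ⟨y, hy⟩ := exists_pt β'
    rw [act_base, show (hm (α' * β')).base = _ from isOverPt_mul hx hy,
      show (hm (β' * α')).base = _ from isOverPt_mul hy hx, _root_.mul_comm y x]
  · rw [act_comp, show hm (α' * β') ≫ _ = _ from isPull_mul f hα hβ,
      show hm (β' * α') ≫ _ = _ from isPull_mul f hβ hα]
    rw [IsCom] at h
    rw [h, comp_act, ← fnT_plMap f]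
    rfl

end Groth.Agent.ThetaLib
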