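import Groth.Agent.ThetaLib.HomDesc
import Groth.Agent.ThetaLib.Pull
import Groth.Agent.ThetaLib.Local
import Groth.Agent.ThetaLib.Commutator
import Groth.Agent.Assoc.Kernel
import Groth.Agent.GrpField.Isogeny
import Groth.Agent.ParaFLib.Ext

/-!
Points of the theta group commuting with the lifts of a kernel descend.
-/

set_option autoImplicit false
set_option backward.isDefEq.respectTransparency false
set_option backward.isDefEq.respectTransparency.types false
set_option linter.style.haveILetI false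

universe u

open CategoryTheory CategoryTheory.Limits MonoidalCategory CartesianMonoidalCategory MonObj AlgebraicGeometry
open ThetaGrp (transl thetaObj thetaPts IsOverPt bcLift IsBaseChange transl_fst transl_snd transl_mul transl_one)

noncomputable section

namespace Groth.Agent.ThetaLib

variable {k : Type u} [Field k]
  {A : Over (Spec (CommRingCat.of k))} [GrpObj A] [IsCommMonObj A] [IsProper A.hom] [GeometricallyIntegral A.hom]
  {B : Over (Spec (CommRingCat.of k))} [GrpObj B] [IsCommMonObj B] [IsProper B.hom] [GeometricallyIntegral B.hom]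
  (f : A ⟶ B) [IsMonHom f] {N : Over (Spec (CommRingCat.of k))} {i : N ⟶ A}

omit [IsCommMonObj A] [IsCommMonObj B] in
/-- a surjective homomorphism of abelian varieties gives coverings after any base change -/
theorem covering_whisker (hf : Surjective f.left) (T : Over (Spec (CommRingCat.of k))) :
    Flat (f ▷ T).left ∧ Surjective (f ▷ T).left ∧ QuasiCompact (f ▷ T).left := by
  haveI : IsIntegral A.left := GeometricallyIntegral.isIntegral_of_subsingleton A.hom
  haveI : IsIntegral B.left := GeometricallyIntegral.isIntegral_of_subsingleton B.hom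
  haveI : IsProper (f.left ≫ B.hom) := by rw [Over.w]; infer_instance
  haveI : IsProper f.left := IsProper.of_comp f.left B.hom
  haveI : Flat f.left := GrpField.flat_of_surjective f
  have hp := Assoc.isPullback_whiskerRight (Z := T) f
  exact ⟨MorphismProperty.of_isPullback (P := @Flat) hp inferInstance,
    MorphismProperty.of_isPullback (P := @Surjective) hp hf,
    MorphismProperty.of_isPullback (P := @QuasiCompact) hp inferInstance⟩

omit [IsCommMonObj B] [IsProper A.hom] [GeometricallyIntegral A.hom] [IsProper B.hom] [GeometricallyIntegral B.hom] in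
/-- the kernel pair of a base change of a homomorphism -/
theorem isPullback_kernel (hN : AlgGrp.IsKernel i f) (T : Over (Spec (CommRingCat.of k))) :
    IsPullback (A ◁ snd N T).left (transl A (fst N T ≫ i) ≫ A ◁ snd N T).left (f ▷ T).left (f ▷ T).left := by
  suffices h : IsPullback (A ◁ snd N T) (transl A (fst N T ≫ i) ≫ A ◁ snd N T) (f ▷ T) (f ▷ T) from
    h.map (Over.forget _)
  have hf1 : (transl A (fst N T ≫ i) ≫ A ◁ snd N T) ≫ fst A T = fst A (N ⊗ T) * (snd A (N ⊗ T) ≫ fst N T ≫ i) := by
    rw [Category.assoc, whiskerLeft_fst, transl_fst]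
  have hf2 : (transl A (fst N T ≫ i) ≫ A ◁ snd N T) ≫ snd A T = snd A (N ⊗ T) ≫ snd N T := by
    rw [Category.assoc, whiskerLeft_snd, ← Category.assoc, transl_snd]
  have h1 : ∀ {Z : Over (Spec (CommRingCat.of k))} (z : Z ⟶ N), z ≫ i ≫ f = 1 := fun z => by
    rw [hN.w, ← Category.assoc, toUnit_unique (z ≫ toUnit N) (toUnit _), Hom.one_def]
  have hz : ∀ s : PullbackCone (f ▷ T) (f ▷ T), ((s.fst ≫ fst A T)⁻¹ * (s.snd ≫ fst A T)) ≫ f = toUnit s.pt ≫ η[B] := fun s => by
    have h := congrArg (fun m => m ≫ fst B T) s.condition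
    simp only [Category.assoc, whiskerRight_fst] at h
    rw [MonObj.mul_comp, GrpObj.inv_comp, Category.assoc, Category.assoc, h, inv_mul_cancel, Hom.one_def]
  have hsnd : ∀ s : PullbackCone (f ▷ T) (f ▷ T), s.fst ≫ snd A T = s.snd ≫ snd A T := fun s => by
    have h := congrArg (fun m => m ≫ snd B T) s.condition
    simpa only [Category.assoc, whiskerRight_snd] using h
  refine ⟨⟨?_⟩, ⟨PullbackCone.IsLimit.mk _
    (fun s => lift (s.fst ≫ fst A T) (lift (hN.lift _ (toUnit _) (hz s)) (s.fst ≫ snd A T)))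
    (fun s => ?_) (fun s => ?_) (fun s m hm₁ hm₂ => ?_)⟩⟩
  · apply CartesianMonoidalCategory.hom_ext
    · rw [Category.assoc, Category.assoc, whiskerRight_fst, ← Category.assoc, ← Category.assoc, whiskerLeft_fst, hf1,
        MonObj.mul_comp, Category.assoc, Category.assoc, h1, MonObj.comp_one, _root_.mul_one]
    · rw [Category.assoc, Category.assoc, whiskerRight_snd, whiskerLeft_snd, hf2]
  · apply CartesianMonoidalCategory.hom_ext
    · rw [Category.assoc, whiskerLeft_fst, lift_fst]
    · rw [Category.assoc, whiskerLeft_snd, lift_snd_assoc, lift_snd]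
  · apply CartesianMonoidalCategory.hom_ext
    · rw [Category.assoc, hf1, MonObj.comp_mul, lift_fst, lift_snd_assoc, lift_fst_assoc, hN.lift_fst,
        mul_inv_cancel_left]
    · rw [Category.assoc, hf2, lift_snd_assoc, lift_snd, hsnd]
  · have e1 : m ≫ fst A (N ⊗ T) = s.fst ≫ fst A T := by
      rw [← hm₁, Category.assoc, whiskerLeft_fst]
    apply CartesianMonoidalCategory.hom_ext
    · rw [lift_fst, e1]
    · rw [lift_snd]
      apply CartesianMonoidalCategory.hom_ext
      · rw [lift_fst]
        refine hN.hom_ext ?_ (toUnit_unique _ _)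
        rw [hN.lift_fst, eq_inv_mul_iff_mul_eq, ← e1, ← hm₂, Category.assoc m _ (fst A T), hf1, MonObj.comp_mul]
        simp only [Category.assoc]
      · rw [lift_snd, ← hm₁, Category.assoc, Category.assoc, whiskerLeft_snd]

variable {L : A.left.Modules} {M : B.left.Modules} (e : (Scheme.Modules.pullback f.left).obj M ≅ L)

include e

/-- **descent of a point commuting with the lifts of the kernel** -/
theorem exists_descend_pt (hf : Surjective f.left) (hN : AlgGrp.IsKernel i f) (hM : PicF.IsInvertible M)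
    {T : Over (Spec (CommRingCat.of k))} {x : T ⟶ A} {β : thetaPts A L T} (hx : IsOverPt β x)
    (hcomm : ∀ (gm β' : thetaPts A L (N ⊗ T)), IsOverPt gm (fst N T ≫ i) → IsBaseChange β' (snd N T) β →
      gm * β' = β' * gm) :
    ∃ β₀ : thetaPts B M T, IsOverPt β₀ (x ≫ f) := by
  have h1 : IsOverPt (1 : thetaPts B M (N ⊗ T)) ((fst N T ≫ i) ≫ f) := by
    rw [show (fst N T ≫ i) ≫ f = 1 by
      rw [Category.assoc, hN.w, ← Category.assoc, toUnit_unique (fst N T ≫ toUnit N) (toUnit _), Hom.one_def]]
    exact isOverPt_one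
  obtain ⟨gm, hgm, hgmx⟩ := exists_descPt f e h1
  obtain ⟨β', hβ', hβ'x⟩ := exists_bc (snd N T) hx
  let φ := descMap f e T
  let π₁ : (thetaObj A L (N ⊗ T) : Obj.{u}) ⟶ thetaObj A L T := bcLift A L (snd N T)
  let π₂ : (thetaObj A L (N ⊗ T) : Obj.{u}) ⟶ thetaObj A L T := hm gm ≫ π₁
  haveI : IsIso (fib π₁) := isIso_fib_bcLift _
  haveI : IsIso (fib π₂) := isIso_fib_comp _ _
  obtain ⟨hfl, hsu, hqc⟩ := covering_whisker f hf T
  haveI : Flat φ.base := by rw [show φ.base = _ from descMap_base f e T]; exact hfl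
  haveI : Surjective φ.base := by rw [show φ.base = _ from descMap_base f e T]; exact hsu
  haveI : QuasiCompact φ.base := by rw [show φ.base = _ from descMap_base f e T]; exact hqc
  haveI : IsIso (fib (hm β ≫ φ)) := isIso_fib_comp _ _
  have hP : IsPullback π₁.base π₂.base φ.base φ.base := by
    change IsPullback (A ◁ snd N T).left ((hm gm).base ≫ (A ◁ snd N T).left) φ.base φ.base
    rw [show φ.base = _ from descMap_base f e T, show (hm gm).base = _ from hgmx, ← Over.comp_left]
    exact isPullback_kernel f hN T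
  have hφ : π₁ ≫ φ = π₂ ≫ φ := by
    change _ = (hm gm ≫ π₁) ≫ φ
    rw [Category.assoc, bcLift_descMap, ← Category.assoc, show hm gm ≫ _ = _ from hgm]
    exact congrArg (· ≫ bcLift B M (snd N T)) (Category.comp_id _).symm
  have hh : π₁ ≫ hm β ≫ φ = π₂ ≫ hm β ≫ φ := by
    have e1 : π₁ ≫ hm β = hm β' ≫ π₁ := hβ'.symm
    have e2 : hm gm ≫ hm β' = hm β' ≫ hm gm := (congrArg hm (hcomm gm β' hgmx hβ')).symm
    change _ = (hm gm ≫ π₁) ≫ hm β ≫ φ
    rw [Category.assoc (hm gm), reassoc_of% e1, reassoc_of% e2]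
    exact congrArg (hm β' ≫ ·) (hφ.trans (Category.assoc _ _ _))
  obtain ⟨k', hk', hk'i, -⟩ := exists_descHom φ π₁ π₂ hP hφ (isInvertible_md hM T) (isInvertible_md hM T)
    (hm β ≫ φ) (transl B (x ≫ f)).left (by
      change _ = (hm β).base ≫ φ.base
      rw [show φ.base = _ from descMap_base f e T, show (hm β).base = _ from hx, ← Over.comp_left, ← Over.comp_left,
        transl_pl]) hh
  obtain ⟨β₀, -, hβ₀⟩ := exists_of_hom (L := M) (x ≫ f) k' hk'
  exact ⟨β₀, hβ₀⟩

omit [GrpObj A] [IsCommMonObj A] [IsProper A.hom] [GeometricallyIntegral A.hom] [GrpObj B] [IsCommMonObj B]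
  [IsProper B.hom] [GeometricallyIntegral B.hom] in
theorem isInvertible_of_iso (hM : PicF.IsInvertible M) : PicF.IsInvertible L :=
  ParaFLib.isInvertible_of_iso e (PicLoc.isInvertible_pullback _ hM)

/-- a point mapping into `K(M)` is orthogonal to the kernel -/
theorem isPerpPt_of_isMumfordTriv (hN : AlgGrp.IsKernel i f) (hM : PicF.IsInvertible M)
    {T : Over (Spec (CommRingCat.of k))} {x : T ⟶ A} (h : ThetaGrp.IsMumfordTriv B M (x ≫ f)) :
    ThetaGrp.IsPerpPt L i x := by
  have hL : PicF.IsInvertible L := isInvertible_of_iso f e hM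
  intro T' g n β₁ β₂ h₁ h₂
  obtain ⟨t, ht⟩ := exists_com hL fnT_surjective β₁ β₂
  suffices t = 1 from (isCom_one_iff hL).1 (this ▸ ht)
  refine fn_ext fun v => ?_
  obtain ⟨U, hvU, b, hb⟩ := exists_local hM _ h (g.left.base v)
  let W : T'.left.Opens := g.left ⁻¹ᵁ U
  let r : opn T' W ⟶ piece U := Over.homMk (g.left ∣_ U) (by simp [morphismRestrict_ι_assoc, W])
  have er : r ≫ pieceι U = opnι T' W ≫ g := Over.OverMorphism.ext (morphismRestrict_ι g.left U)
  obtain ⟨b', -, hb'⟩ := exists_bc r hb
  rw [← Category.assoc, er, ← Category.assoc, Category.assoc (opnι T' W)] at hb'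
  obtain ⟨a, ha, hax⟩ := exists_descPt f e hb'
  have h1 : IsOverPt (1 : thetaPts B M (opn T' W)) ((opnι T' W ≫ n ≫ i) ≫ f) := by
    rw [show (opnι T' W ≫ n ≫ i) ≫ f = 1 by
      rw [Category.assoc, Category.assoc, hN.w, ← Category.assoc n, toUnit_unique (n ≫ toUnit N) (toUnit _),
        ← Category.assoc, toUnit_unique (opnι T' W ≫ toUnit _) (toUnit _), Hom.one_def]]
    exact isOverPt_one
  obtain ⟨gm, hgm, hgmx⟩ := exists_descPt f e h1
  obtain ⟨d₁, hd₁, hdx₁⟩ := exists_bc (opnι T' W) h₁
  obtain ⟨d₂, hd₂, hdx₂⟩ := exists_bc (opnι T' W) h₂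
  have hcomm : a * gm = gm * a := by
    have p1 := isDescPt_mul f e ha hgm
    have p2 := isDescPt_mul f e hgm ha
    rw [_root_.mul_one] at p1
    rw [_root_.one_mul] at p2
    refine isDescPt_unique f e p1 p2 (isOverPt_mul hax hgmx) ?_
    rw [_root_.mul_comm]
    exact isOverPt_mul hgmx hax
  exact ⟨W, hvU, (isCom_unique hL (isCom_bc hd₁ hd₂ ht) (isCom_indep hL fnT_surjective hax hdx₁ hgmx hdx₂
    ((isCom_one_iff hL).2 hcomm))).trans (map_one _).symm⟩

/-- a point mapping into `K(M)` lifts locally -/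
theorem exists_local_of_isMumfordTriv (hM : PicF.IsInvertible M) {T : Over (Spec (CommRingCat.of k))} {x : T ⟶ A}
    (h : ThetaGrp.IsMumfordTriv B M (x ≫ f)) (t : T.left) :
    ∃ U : T.left.Opens, t ∈ U ∧ ∃ β : thetaPts A L (piece U), IsOverPt β (pieceι U ≫ x) := by
  obtain ⟨U, htU, b, hb⟩ := exists_local hM _ h t
  rw [← Category.assoc] at hb
  obtain ⟨a, -, hax⟩ := exists_descPt f e hb
  exact ⟨U, htU, a, hax⟩

/-- a locally liftable point orthogonal to the kernel maps into `K(M)` locally -/
theorem exists_local_descend (hf : Surjective f.left) (hN : AlgGrp.IsKernel i f) (hM : PicF.IsInvertible M)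
    {T : Over (Spec (CommRingCat.of k))} {x : T ⟶ A} (hp : ThetaGrp.IsPerpPt L i x) {U : Over (Spec (CommRingCat.of k))}
    (g : U ⟶ T) {β : thetaPts A L U} (hβ : IsOverPt β (g ≫ x)) :
    ∃ β₀ : thetaPts B M U, IsOverPt β₀ ((g ≫ x) ≫ f) :=
  exists_descend_pt f e hf hN hM hβ fun gm β' hgm hβ' =>
    (hp (N ⊗ U) (snd N U ≫ g) (fst N U) β' gm (by rw [Category.assoc]; exact isOverPt_of_bc hβ hβ') hgm).symm

end Groth.Agent.ThetaLib
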