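import Groth.Agent.ThetaLib.ObjDesc
import Groth.Agent.ThetaLib.Descend

/-!
A module with compatible lifts of a kernel to the theta group descends.
-/

set_option autoImplicit false
set_option backward.isDefEq.respectTransparency false
set_option backward.isDefEq.respectTransparency.types false
set_option linter.style.haveILetI false
set_option maxHeartbeats 2000000

universe u

open CategoryTheory CategoryTheory.Limits MonoidalCategory CartesianMonoidalCategory MonObj AlgebraicGeometry
open ThetaGrp (transl thetaObj thetaPts IsOverPt bcLift IsBaseChange transl_fst transl_snd transl_mul transl_one)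

noncomputable section

namespace Groth.Agent.ThetaLib

variable {k : Type u} [Field k]
  {A : Over (Spec (CommRingCat.of k))} [GrpObj A] [IsCommMonObj A] [IsProper A.hom] [GeometricallyIntegral A.hom]
  {B : Over (Spec (CommRingCat.of k))} [GrpObj B] [IsCommMonObj B] [IsProper B.hom] [GeometricallyIntegral B.hom]
  (f : A ⟶ B) [IsMonHom f] {N : Over (Spec (CommRingCat.of k))} [GrpObj N] {i : N ⟶ A} [IsMonHom i]

omit [IsCommMonObj A] [IsCommMonObj B] in
/-- a surjective homomorphism of abelian varieties is a covering -/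
theorem covering_isogeny (hf : Surjective f.left) : Flat f.left ∧ QuasiCompact f.left := by
  haveI : IsIntegral A.left := GeometricallyIntegral.isIntegral_of_subsingleton A.hom
  haveI : IsIntegral B.left := GeometricallyIntegral.isIntegral_of_subsingleton B.hom
  haveI : IsProper (f.left ≫ B.hom) := by rw [Over.w]; infer_instance
  haveI : IsProper f.left := IsProper.of_comp f.left B.hom
  exact ⟨GrpField.flat_of_surjective f, inferInstance⟩

/-- **descent from lifts of the kernel to the theta group** -/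
theorem exists_desc_of_lifts (hf : Surjective f.left) (hN : AlgGrp.IsKernel i f) {L : A.left.Modules}
    (hL : PicF.IsInvertible L)
    (gm : ∀ (T : Over (Spec (CommRingCat.of k))), (T ⟶ N) → thetaPts A L T)
    (hover : ∀ T n, IsOverPt (gm T n) (n ≫ i))
    (hnat : ∀ T T' (t : T' ⟶ T) (n : T ⟶ N), IsBaseChange (gm T' (t ≫ n)) t (gm T n))
    (hmul : ∀ T (a b : T ⟶ N), gm T (a * b) = gm T a * gm T b) :
    ∃ M : B.left.Modules, PicF.IsInvertible M ∧ Nonempty ((Scheme.Modules.pullback f.left).obj M ≅ L) := by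
  obtain ⟨hfl, hqc⟩ := covering_isogeny f hf
  let π₁ : (thetaObj A L N : Obj.{u}) ⟶ modObj A L := prMap L N
  let π₂ : (thetaObj A L N : Obj.{u}) ⟶ modObj A L := hm (gm N (𝟙 N)) ≫ prMap L N
  haveI : IsIso (fib π₁) := isIso_fib_prMap L N
  haveI : IsIso (fib π₂) := isIso_fib_comp _ _
  have hgi : (A ◁ i) ≫ μ[A] = transl A (𝟙 N ≫ i) ≫ fst A N := by
    rw [transl_fst, Category.id_comp, Hom.mul_def]
    congr 1
  have hb₂ : π₂.base = ((A ◁ i) ≫ μ[A]).left := by
    change (hm _).base ≫ (fst A N).left = _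
    rw [show (hm (gm N (𝟙 N))).base = _ from hover N (𝟙 N), hgi, Over.comp_left]
  have hP : IsPullback π₁.base π₂.base f.left f.left := by
    rw [hb₂]
    exact (Assoc.kernel_isPullback i f hN).map (Over.forget _)
  let NN := N ⊗ N
  let q₁₂ : (thetaObj A L NN : Obj.{u}) ⟶ thetaObj A L N := bcLift A L (fst N N)
  let q₂₃ : (thetaObj A L NN : Obj.{u}) ⟶ thetaObj A L N := hm (gm NN (fst N N)) ≫ bcLift A L (snd N N)
  let q₁₃ : (thetaObj A L NN : Obj.{u}) ⟶ thetaObj A L N := bcLift A L (snd N N * fst N N)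
  haveI : IsIso (fib q₁₂) := isIso_fib_bcLift _
  haveI : IsIso (fib q₂₃) := isIso_fib_comp _ _
  haveI : IsIso (fib q₁₃) := isIso_fib_bcLift _
  have hpr : ∀ {T : Over (Spec (CommRingCat.of k))} (n : T ⟶ N), bcLift A L n ≫ π₂ = hm (gm T n) ≫ prMap L T := by
    intro T n
    have h := hnat N T n (𝟙 N)
    rw [Category.comp_id] at h
    change bcLift A L n ≫ hm (gm N (𝟙 N)) ≫ prMap L N = _
    have h' : hm (gm T n) ≫ bcLift A L n = bcLift A L n ≫ hm (gm N (𝟙 N)) := h
    rw [← reassoc_of% h', bcLift_pr]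
  have h₁ : q₁₂ ≫ π₁ = q₁₃ ≫ π₁ := (bcLift_pr _).trans (bcLift_pr _).symm
  have h₂ : q₁₂ ≫ π₂ = q₂₃ ≫ π₁ := by
    refine (hpr _).trans ?_
    change _ = (hm _ ≫ bcLift A L (snd N N)) ≫ prMap L N
    rw [Category.assoc, bcLift_pr]
  have h₃ : q₂₃ ≫ π₂ = q₁₃ ≫ π₂ := by
    refine Eq.trans ?_ (hpr _).symm
    change (hm _ ≫ bcLift A L (snd N N)) ≫ π₂ = _
    rw [Category.assoc, hpr, ← Category.assoc, ← hm_mul, hmul]
  haveI : @Flat (modObj A L).base B.left f.left := hfl
  haveI : @Surjective (modObj A L).base B.left f.left := hf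
  haveI : @QuasiCompact (modObj A L).base B.left f.left := hqc
  refine exists_descObj (X' := modObj A L) (X'' := thetaObj A L N) (X₃ := thetaObj A L NN) f.left π₁ π₂ hP q₁₂ q₂₃ q₁₃
    h₁ h₂ h₃ (fun {T} (x y z : T ⟶ A.left) (hxy : x ≫ f.left = y ≫ f.left) (hyz : y ≫ f.left = z ≫ f.left) => ?_) hL
  have hxA : ∀ {a b : T ⟶ A.left}, a ≫ f.left = b ≫ f.left → a ≫ A.hom = b ≫ A.hom := fun {a b} h => by
    rw [← Over.w f, reassoc_of% h]
  let T' : Over (Spec (CommRingCat.of k)) := Over.mk (x ≫ A.hom)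
  let x' : T' ⟶ A := Over.homMk x rfl
  let y' : T' ⟶ A := Over.homMk y (hxA hxy).symm
  let z' : T' ⟶ A := Over.homMk z ((hxA hyz).symm.trans (hxA hxy).symm)
  obtain ⟨v, hv₁, hv₂⟩ := (Assoc.kernel_isPullback i f hN).exists_lift x' y' (Over.OverMorphism.ext hxy)
  obtain ⟨v', hv'₁, hv'₂⟩ := (Assoc.kernel_isPullback i f hN).exists_lift y' z' (Over.OverMorphism.ext hyz)
  let w : T' ⟶ A ⊗ NN := lift x' (lift (v ≫ snd A N) (v' ≫ snd A N))
  have ev1 : w ≫ A ◁ fst N N = v := by
    apply CartesianMonoidalCategory.hom_ext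
    · simp [w, hv₁]
    · simp [w]
  refine ⟨w.left, ?_, ?_, ?_⟩
  · change w.left ≫ (A ◁ fst N N).left ≫ (fst A N).left = _
    rw [← Over.comp_left, ← Over.comp_left, reassoc_of% ev1, hv₁]
    rfl
  · change w.left ≫ (A ◁ fst N N).left ≫ π₂.base = _
    rw [hb₂, ← Over.comp_left, ← Over.comp_left, reassoc_of% ev1, hv₂]
    rfl
  · change w.left ≫ ((hm _).base ≫ (A ◁ snd N N).left) ≫ π₂.base = _
    rw [show (hm (gm NN (fst N N))).base = _ from hover NN (fst N N), hb₂, ← Over.comp_left, ← Over.comp_left,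
      ← Over.comp_left]
    have hw : w ≫ transl A (fst N N ≫ i) ≫ A ◁ snd N N = v' := by
      apply CartesianMonoidalCategory.hom_ext
      · rw [Category.assoc, Category.assoc, whiskerLeft_fst, transl_fst, hv'₁, MonObj.comp_mul]
        have e : y' = x' * ((v ≫ snd A N) ≫ i) := by
          rw [← hv₂, hgi, transl_fst, Category.id_comp, MonObj.comp_mul, hv₁, Category.assoc]
        rw [e]
        simp [w]
      · rw [Category.assoc, Category.assoc, whiskerLeft_snd, ← Category.assoc (transl A _), transl_snd]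
        simp [w]
    rw [← Category.assoc w, hw, hv'₂]
    rfl

end Groth.Agent.ThetaLib
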