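import Groth.Agent.ThetaLib.FrameRep
import Groth.Agent.ThetaLib.Local
import Groth.Agent.S7817
import Groth.Agent.Assoc.Kernel
import Groth.Agent.ResDesc.ResProp
import Groth.Agent.ParaFLib.Ext

/-!
The theta group functor is representable.
-/

set_option autoImplicit false
set_option backward.isDefEq.respectTransparency false
set_option backward.isDefEq.respectTransparency.types false
set_option linter.style.haveILetI false
set_option maxHeartbeats 1000000

universe u

open CategoryTheory CategoryTheory.Limits MonoidalCategory CartesianMonoidalCategory MonObj AlgebraicGeometry Opposite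
open Groth.Agent.W7Cube
open ThetaGrp (transl thetaObj thetaPts IsOverPt bcLift IsBaseChange transl_fst transl_snd transl_mul transl_one)

attribute [local instance] Groth.Agent.W7Cube.law

noncomputable section

namespace Groth.Agent.ThetaLib

variable {k : Type u} [Field k] {A : Over (Spec (CommRingCat.of k))} [GrpObj A] [IsProper A.hom]
  [GeometricallyIntegral A.hom] {L : A.left.Modules}

/-- the locus with trivial Mumford bundle -/
theorem exists_locus (hL : PicF.IsInvertible L) :
    ∃ (Z : Over (Spec (CommRingCat.of k))) (z : Z ⟶ A), Mono z.left ∧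
      ∀ (T : Over (Spec (CommRingCat.of k))) (x : T ⟶ A), ThetaGrp.IsMumfordTriv A L x ↔ ∃ y : T ⟶ Z, y ≫ z = x := by
  obtain ⟨Λ, hΛ, hcl⟩ := PicGrp.exists_eq_cls (AVAmple.mum (PicGrp.cls L hL) (𝟙 A))
  have hsq : IsPullback (snd A A).left (fst A A).left A.hom A.hom := by
    refine ⟨⟨by rw [Over.w, Over.w]⟩, ⟨PullbackCone.IsLimit.mk _
      (fun s => (lift (Over.homMk s.snd rfl : Over.mk (s.snd ≫ A.hom) ⟶ A)
        (Over.homMk s.fst s.condition : Over.mk (s.snd ≫ A.hom) ⟶ A)).left)
      (fun s => ?_) (fun s => ?_) (fun s m h₁ h₂ => ?_)⟩⟩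
    · rw [← Over.comp_left, lift_snd]; rfl
    · rw [← Over.comp_left, lift_fst]; rfl
    · let m' : Over.mk (s.snd ≫ A.hom) ⟶ A ⊗ A := Over.homMk m (by
        rw [← Over.w (fst A A), ← Category.assoc, h₂]; rfl)
      have : m' = lift (Over.homMk s.snd rfl) (Over.homMk s.fst s.condition) := by
        apply CartesianMonoidalCategory.hom_ext
        · rw [lift_fst]; exact Over.OverMorphism.ext h₂
        · rw [lift_snd]; exact Over.OverMorphism.ext h₁
      exact congrArg CommaMorphism.left this
  let f := (snd A A).left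
  haveI : IsProper f := MorphismProperty.of_isPullback (P := @IsProper) hsq.flip ‹_›
  haveI : GeometricallyIntegral f := MorphismProperty.of_isPullback (P := @GeometricallyIntegral) hsq.flip ‹_›
  haveI : Flat A.hom := inferInstance
  haveI : Flat f := MorphismProperty.of_isPullback (P := @Flat) hsq.flip ‹_›
  haveI : LocallyOfFinitePresentation A.hom := inferInstance
  haveI : LocallyOfFinitePresentation f := MorphismProperty.of_isPullback (P := @LocallyOfFinitePresentation) hsq.flip ‹_›
  haveI : GeometricallyConnected f := W7See.geometricallyConnected_of_geometricallyIntegral f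
  obtain ⟨Z, j, hj, -, -, huniv, -⟩ := S7817.result f Λ (ResDesc.isFinLocFree_of_isInvertible hΛ)
  refine ⟨Over.mk (j ≫ A.hom), Over.homMk j rfl, inferInstanceAs (Mono j), fun T x => ?_⟩
  have hp : IsPullback (A ◁ x).left (snd A T).left f x.left := (Assoc.isPullback_whiskerLeft x).flip
  have hm : pull (A ◁ x).left (PicGrp.cls Λ hΛ) = AVAmple.mum (PicGrp.cls L hL) x := by
    rw [show PicGrp.cls Λ hΛ = AVAmple.mum (PicGrp.cls L hL) (𝟙 A) from hcl.symm, pull_mum, Category.comp_id]
  refine Iff.trans ?_ (Iff.trans (huniv T.left x.left).symm ⟨fun ⟨y, hy⟩ => ⟨Over.homMk y (by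
    change y ≫ j ≫ A.hom = T.hom
    rw [← Category.assoc, hy, Over.w]), Over.OverMorphism.ext hy⟩, fun ⟨y, hy⟩ => ⟨y.left, congrArg CommaMorphism.left hy⟩⟩)
  rw [AVAmple.isMumfordTriv_iff L hL x, ← hm, pull_cls]
  constructor
  · rintro ⟨d, hd⟩
    obtain ⟨M, hM, rfl⟩ := PicGrp.exists_eq_cls d
    rw [pull_cls, PicGrp.cls_eq_cls_iff] at hd
    obtain ⟨i⟩ := hd
    refine ⟨M, ResDesc.isFinLocFree_of_isInvertible hM, ⟨?_⟩⟩
    exact (Scheme.Modules.pullbackCongr hp.isoPullback_inv_fst).symm.app Λ ≪≫
      ((Scheme.Modules.pullbackComp hp.isoPullback.inv (A ◁ x).left).app Λ).symm ≪≫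
      (Scheme.Modules.pullback hp.isoPullback.inv).mapIso i ≪≫
      (Scheme.Modules.pullbackComp hp.isoPullback.inv (snd A T).left).app M ≪≫
      (Scheme.Modules.pullbackCongr hp.isoPullback_inv_snd).app M
  · rintro ⟨M, -, ⟨i⟩⟩
    let i' : (Scheme.Modules.pullback (A ◁ x).left).obj Λ ≅ (Scheme.Modules.pullback (snd A T).left).obj M :=
      (Scheme.Modules.pullbackCongr hp.isoPullback_hom_fst).symm.app Λ ≪≫
        ((Scheme.Modules.pullbackComp hp.isoPullback.hom _).app Λ).symm ≪≫
        (Scheme.Modules.pullback hp.isoPullback.hom).mapIso i ≪≫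
        (Scheme.Modules.pullbackComp hp.isoPullback.hom _).app M ≪≫
        (Scheme.Modules.pullbackCongr hp.isoPullback_hom_snd).app M
    let σ := (lift (toUnit T ≫ η[A]) (𝟙 T)).left
    have hσ : σ ≫ (snd A T).left = 𝟙 _ := by
      rw [← Over.comp_left, lift_snd]; rfl
    have hM : PicF.IsInvertible M := ParaFLib.isInvertible_of_iso
      ((Scheme.Modules.pullback σ).mapIso i' ≪≫ (Scheme.Modules.pullbackComp σ _).app M ≪≫
        (Scheme.Modules.pullbackCongr hσ).app M ≪≫ (Scheme.Modules.pullbackId _).app M)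
      (PicLoc.isInvertible_pullback σ (PicLoc.isInvertible_pullback _ hΛ))
    refine ⟨PicGrp.cls M hM, ?_⟩
    rw [pull_cls, PicGrp.cls_eq_cls_iff]
    exact ⟨i'⟩

variable (hL : PicF.IsInvertible L)

include hL in
theorem exists_trivOrigin : ∃ c : uObj (𝟙_ (Over (Spec (CommRingCat.of k)))).left ⟶ modObj A L,
    c.base = (η[A] : 𝟙_ (Over (Spec (CommRingCat.of k))) ⟶ A).left ∧ IsIso (fib c) := by
  let o := (η[A] : 𝟙_ (Over (Spec (CommRingCat.of k))) ⟶ A).left
  haveI : Nonempty (𝟙_ (Over (Spec (CommRingCat.of k)))).left := inferInstanceAs (Nonempty (PrimeSpectrum k))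
  obtain ⟨O, p, hO, hp⟩ := TMul.exists_isGen hL (o.base (Nonempty.some inferInstance))
  have h : (⊤ : (𝟙_ (Over (Spec (CommRingCat.of k)))).left.Opens) ≤ o ⁻¹ᵁ O := fun t _ => by
    haveI : Subsingleton (𝟙_ (Over (Spec (CommRingCat.of k)))).left :=
      inferInstanceAs (Subsingleton (PrimeSpectrum k))
    rw [Subsingleton.elim t (Nonempty.some inferInstance)]
    exact hO
  obtain ⟨c, hb, -⟩ := exists_frame_of_unit (W := modObj A L) o h hp isUnit_one
  exact ⟨c.1, hb, c.2⟩

theorem exists_origin (T : Over (Spec (CommRingCat.of k))) :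
    ∃ φ : uObj T.left ⟶ (thetaObj A L T : Obj.{u}), φ.base = (lift (1 : T ⟶ A) (𝟙 T)).left ∧
      φ ≫ prMap L T = uMap (toUnit T).left ≫ (exists_trivOrigin hL).choose :=
  exists_lift (prMap L T) (uMap (toUnit T).left ≫ (exists_trivOrigin hL).choose)
    (lift (1 : T ⟶ A) (𝟙 T)).left (by
      change (lift (1 : T ⟶ A) (𝟙 T)).left ≫ (fst A T).left = (toUnit T).left ≫ (exists_trivOrigin hL).choose.base
      rw [(exists_trivOrigin hL).choose_spec.1, ← Over.comp_left, ← Over.comp_left, lift_fst, Hom.one_def])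

/-- the trivialised origin of the family -/
def origin (T : Over (Spec (CommRingCat.of k))) : uObj T.left ⟶ (thetaObj A L T : Obj.{u}) :=
  (exists_origin hL T).choose

theorem origin_base (T : Over (Spec (CommRingCat.of k))) : (origin hL T).base = (lift (1 : T ⟶ A) (𝟙 T)).left :=
  (exists_origin hL T).choose_spec.1

theorem origin_pr (T : Over (Spec (CommRingCat.of k))) :
    origin hL T ≫ prMap L T = uMap (toUnit T).left ≫ (exists_trivOrigin hL).choose :=
  (exists_origin hL T).choose_spec.2

instance isIso_fib_origin (T : Over (Spec (CommRingCat.of k))) : IsIso (fib (origin hL T)) := by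
  haveI := (exists_trivOrigin hL).choose_spec.2
  haveI : IsIso (fib (uMap (toUnit T).left ≫ (exists_trivOrigin hL).choose)) := isIso_fib_comp _ _
  haveI : IsIso (fib (origin hL T ≫ prMap L T)) := isIso_fib_congr (origin_pr hL T).symm
  exact isIso_fib_of_comp _ (prMap L T)

theorem uMap_comp {P Q R : Scheme.{u}} (f : P ⟶ Q) (g : Q ⟶ R) : uMap f ≫ uMap g = uMap (f ≫ g) := by
  haveI : IsIso (fib (uMap f ≫ uMap g)) := isIso_fib_comp _ _
  refine cart_ext rfl (fun U s => ?_) (PicLoc.isInvertible_structureModule _)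
  rw [pl_comp (uMap f) (uMap g), pl_uMap, pl_uMap, pl_uMap]
  refine Eq.trans ?_ (QC.res_self _ _ _).symm
  rfl

theorem uMap_origin {T T' : Over (Spec (CommRingCat.of k))} (g : T' ⟶ T) :
    uMap g.left ≫ origin hL T = origin hL T' ≫ bcLift A L g := by
  refine cancel_cart (prMap L T) ?_ ?_
  · change g.left ≫ (origin hL T).base = (origin hL T').base ≫ (A ◁ g).left
    rw [origin_base, origin_base, ← Over.comp_left, ← Over.comp_left]
    congr 1
    apply CartesianMonoidalCategory.hom_ext <;> simp [MonObj.comp_one]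
  · rw [Category.assoc, origin_pr, Category.assoc, bcLift_pr, origin_pr, ← Category.assoc, uMap_comp,
      ← Over.comp_left, toUnit_unique (g ≫ toUnit T) (toUnit T')]

/-- the frame of a point -/
def frameOf {T : Over (Spec (CommRingCat.of k))} (β : thetaPts A L T) : Frame (modObj A L) T.left :=
  ⟨origin hL T ≫ hm β ≫ prMap L T, by
    haveI : IsIso (fib (hm β ≫ prMap L T)) := isIso_fib_comp _ _
    exact isIso_fib_comp _ _⟩

theorem frameOf_base {T : Over (Spec (CommRingCat.of k))} {β : thetaPts A L T} {x : T ⟶ A} (hx : IsOverPt β x) :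
    (frameOf hL β).1.base = x.left := by
  change (origin hL T).base ≫ (hm β).base ≫ (fst A T).left = _
  rw [origin_base, show (hm β).base = _ from hx, ← Over.comp_left, ← Over.comp_left, transl_fst, MonObj.comp_mul,
    lift_fst, lift_snd_assoc, Category.id_comp, _root_.one_mul]

theorem frameOf_bc {T T' : Over (Spec (CommRingCat.of k))} {g : T' ⟶ T} {β : thetaPts A L T} {β' : thetaPts A L T'}
    (h : IsBaseChange β' g β) : frameOf hL β' = (frameOf hL β).pull g.left := by
  refine Subtype.ext ?_
  change origin hL T' ≫ hm β' ≫ prMap L T' = uMap g.left ≫ origin hL T ≫ hm β ≫ prMap L T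
  rw [reassoc_of% (uMap_origin hL g), ← bcLift_pr g, ← reassoc_of% (show hm β' ≫ bcLift A L g = bcLift A L g ≫ hm β from h)]

theorem origin_fnT (T : Over (Spec (CommRingCat.of k))) (t : Γ(T.left, ⊤)) :
    (origin hL T).base.appTop (fnT A T t) = t := by
  rw [origin_base]
  change ((snd A T).left.appTop ≫ (lift (1 : T ⟶ A) (𝟙 T)).left.appTop) t = t
  rw [← Scheme.Hom.comp_appTop, ← Over.comp_left, lift_snd, Over.id_left, Scheme.Hom.id_appTop]
  rfl

theorem frameOf_act {T : Over (Spec (CommRingCat.of k))} {β β' : thetaPts A L T} {t : Γ(T.left, ⊤)}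
    (h : hm β' = act (fnT A T t) (hm β)) : (frameOf hL β').1 = act t (frameOf hL β).1 := by
  change origin hL T ≫ hm β' ≫ prMap L T = act t (origin hL T ≫ hm β ≫ prMap L T)
  rw [h, act_comp, comp_act, origin_fnT]

/-- points are determined by their translation and their frame -/
theorem frameOf_injective {T : Over (Spec (CommRingCat.of k))} {β β' : thetaPts A L T}
    (h : frameOf hL β = frameOf hL β') : β = β' := by
  obtain ⟨x, hx⟩ := exists_pt β
  obtain ⟨x', hx'⟩ := exists_pt β'
  obtain rfl : x = x' := Over.OverMorphism.ext (by rw [← frameOf_base hL hx, ← frameOf_base hL hx', h])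
  obtain ⟨t, ht⟩ := exists_eq_act_pts hL fnT_surjective hx hx'
  have e := frameOf_act hL ht
  rw [← h] at e
  have h1 : (1 : Γ(T.left, ⊤)) = t := act_injective (PicLoc.isInvertible_structureModule _) (frameOf hL β).1
    ((act_one _).trans e)
  refine pts_ext (Eq.trans ?_ ht.symm)
  rw [← h1, fnT_one, act_one]

theorem exists_of_frame {T : Over (Spec (CommRingCat.of k))} {x : T ⟶ A} (hx : ThetaGrp.IsMumfordTriv A L x)
    (c : Frame (modObj A L) T.left) (hc : c.1.base = x.left) : ∃ β : thetaPts A L T, frameOf hL β = c := by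
  obtain ⟨⟨b, a⟩, hi⟩ := c
  obtain rfl : b = x.left := hc
  obtain ⟨d, hd⟩ := (AVAmple.isMumfordTriv_iff L hL x).1 hx
  haveI : IsIso (a : md (uObj T.left) ⟶ _) := hi
  obtain ⟨β₀, hβ₀⟩ := exists_lift_pt hL x (AVAmple.mum_eq_one_of_pullback _ _ d hd) (by
    rw [pc, pull_cls, PicGrp.cls_eq_one_iff]
    exact ⟨(asIso (a : md (uObj T.left) ⟶ _)).symm⟩)
  obtain ⟨t, ht⟩ := exists_eq_act (X := uObj T.left) (PicLoc.isInvertible_structureModule _)
    (mk' (X := uObj T.left) (Y := modObj A L) x.left a) (frameOf hL β₀).1 (frameOf_base hL hβ₀).symm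
  haveI : IsIso (fib (frameOf hL β₀).1) := (frameOf hL β₀).2
  have hu : IsUnit t := by
    obtain ⟨s, hs⟩ := exists_eq_act (X := uObj T.left) (PicLoc.isInvertible_structureModule _)
      (frameOf hL β₀).1 (mk' (X := uObj T.left) (Y := modObj A L) x.left a) (frameOf_base hL hβ₀)
    rw [ht, ← act_mul] at hs
    exact IsUnit.of_mul_eq_one_right s
      (act_injective (PicLoc.isInvertible_structureModule _) (frameOf hL β₀).1 ((act_one _).trans hs)).symm
  haveI : IsIso (fib (act (fnT A T t) (hm β₀))) := by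
    haveI : IsIso (LBDesc.smulMor (md (thetaObj A L T : Obj.{u})) (fnT A T t)) :=
      LBDesc.isIso_smulMor _ (hu.map (snd A T).left.appTop.hom)
    exact IsIso.comp_isIso
  obtain ⟨β, hβ, -⟩ := exists_of_hom (L := L) x (act (fnT A T t) (hm β₀)) hβ₀
  exact ⟨β, Subtype.ext ((frameOf_act hL hβ).trans ht.symm)⟩

include hL in
/-- **representability of the functor of points of the theta group** -/
theorem exists_univPt : ∃ (G : Over (Spec (CommRingCat.of k))) (u : thetaPts A L G),
    ∀ (T : Over (Spec (CommRingCat.of k))) (β : thetaPts A L T), ∃! g : T ⟶ G, IsBaseChange β g u := by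
  obtain ⟨P, cP, hP⟩ := exists_frameScheme (W := modObj A L) hL
  obtain ⟨Z, z, hz, hZ⟩ := exists_locus hL
  let G : Over (Spec (CommRingCat.of k)) := Over.mk ((pullback.snd cP.1.base z.left) ≫ Z.hom)
  let q : G ⟶ Z := Over.homMk (pullback.snd cP.1.base z.left) rfl
  let cG : Frame (modObj A L) G.left := cP.pull (pullback.fst cP.1.base z.left)
  obtain ⟨u, hu⟩ := exists_of_frame hL ((hZ G (q ≫ z)).2 ⟨q, rfl⟩) cG pullback.condition
  have hux : IsOverPt u (q ≫ z) := by
    obtain ⟨x, hx⟩ := exists_pt u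
    obtain rfl : x = q ≫ z := Over.OverMorphism.ext (by rw [← frameOf_base hL hx, hu]; exact pullback.condition)
    exact hx
  refine ⟨G, u, fun T β => ?_⟩
  obtain ⟨x, hx⟩ := exists_pt β
  obtain ⟨y, hy⟩ := (hZ T x).1 (isMumfordTriv_of_lift hL hx)
  obtain ⟨g₁, hg₁, hg₁u⟩ := hP T.left (frameOf hL β)
  have hcond : g₁ ≫ cP.1.base = y.left ≫ z.left := by
    rw [← Over.comp_left, hy, ← frameOf_base hL hx, ← hg₁]
    rfl
  let g : T ⟶ G := Over.homMk (pullback.lift g₁ y.left hcond) (by
    change pullback.lift g₁ y.left hcond ≫ pullback.snd _ _ ≫ Z.hom = _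
    rw [pullback.lift_snd_assoc, Over.w])
  refine ⟨g, ?_, fun g' hg' => ?_⟩
  · obtain ⟨β', hβ', -⟩ := exists_bc g hux
    suffices β' = β from this ▸ hβ'
    refine frameOf_injective hL ?_
    rw [frameOf_bc hL hβ', hu, ← hg₁]
    change (cP.pull _).pull _ = _
    rw [← pull_comp (W := modObj A L) hL]
    congr 1
    exact pullback.lift_fst _ _ _
  · refine Over.OverMorphism.ext (pullback.hom_ext ?_ ?_)
    · rw [show g.left ≫ pullback.fst _ _ = g₁ from pullback.lift_fst _ _ _]
      refine hg₁u _ ?_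
      dsimp only
      rw [pull_comp (W := modObj A L) hL, frameOf_bc hL hg', hu]
    · rw [show g.left ≫ pullback.snd _ _ = y.left from pullback.lift_snd _ _ _, ← cancel_mono z.left]
      have e : g'.left ≫ pullback.snd cP.1.base z.left ≫ z.left = x.left :=
        congrArg CommaMorphism.left (pt_unique (isOverPt_of_bc hux hg') hx)
      rw [← Over.comp_left, hy, Category.assoc]
      exact e

end Groth.Agent.ThetaLib
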