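import Mathlib.RingTheory.Bialgebra.Convolution
import Mathlib.FieldTheory.IsAlgClosed.Basic
import Mathlib.LinearAlgebra.Dual.Lemmas
import Mathlib.LinearAlgebra.TensorProduct.Basis
import Mathlib.RingTheory.Artinian.Module

/-!
A symmetric two-cocycle of a finite commutative group scheme over an algebraically closed field is a
coboundary: the twisted dual algebra has a rational point.
-/

set_option autoImplicit false
set_option linter.style.haveILetI false

universe u

open TensorProduct Coalgebra WithConv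

noncomputable section

namespace Groth.Agent.ThetaLib.CocycleChar

variable {k A : Type u} [Field k] [CommRing A] [Bialgebra k A]

/-- Points with values in an algebra. -/
abbrev Pt (k A S : Type u) [Field k] [CommRing A] [Bialgebra k A] [CommRing S] [Algebra k S] := WithConv (A →ₐ[k] S)

variable (A) in
/-- The first coordinate point. -/
abbrev inl : Pt k A (A ⊗[k] A) := toConv Algebra.TensorProduct.includeLeft

variable (A) in
/-- The second coordinate point. -/
abbrev inr : Pt k A (A ⊗[k] A) := toConv Algebra.TensorProduct.includeRight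

theorem inl_mul_inr (r : A) : ((inl A * inr A : Pt k A (A ⊗[k] A))) r = comul r := by
  rw [AlgHom.convMul_apply]
  have : Algebra.TensorProduct.lift (inl (k := k) A).ofConv (inr A).ofConv (fun _ _ ↦ .all ..) = AlgHom.id k _ := by
    ext <;> simp
  rw [this]
  rfl

theorem map_comul {S : Type u} [CommRing S] [Algebra k S] (g : A ⊗[k] A →ₐ[k] S) (r : A) :
    g (comul r) = (toConv (g.comp (inl A).ofConv) * toConv (g.comp (inr A).ofConv)) r := by
  rw [← inl_mul_inr]
  exact DFunLike.congr_fun (AlgHom.comp_convMul_distrib g (inl A) (inr A)) r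

/-- The product of two functionals on the tensor square. -/
abbrev P {B C : Type u} [AddCommMonoid B] [AddCommMonoid C] [Module k B] [Module k C]
    (φ : B →ₗ[k] k) (ψ : C →ₗ[k] k) : B ⊗[k] C →ₗ[k] k :=
  LinearMap.mul' k k ∘ₗ TensorProduct.map φ ψ

theorem exists_char [IsAlgClosed k] [FiniteDimensional k A]
    (c : ∀ (S : Type u) [CommRing S] [Algebra k S], Pt k A S → Pt k A S → S)
    (hnat : ∀ (S S' : Type u) [CommRing S] [Algebra k S] [CommRing S'] [Algebra k S'] (g : S →ₐ[k] S') (a b : Pt k A S),
      g (c S a b) = c S' (toConv (g.comp a.ofConv)) (toConv (g.comp b.ofConv)))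
    (hab : ∀ (S : Type u) [CommRing S] [Algebra k S] (a b : Pt k A S), a * b = b * a)
    (hcomm : ∀ (S : Type u) [CommRing S] [Algebra k S] (a b : Pt k A S), c S a b = c S b a)
    (hone : ∀ (S : Type u) [CommRing S] [Algebra k S] (b : Pt k A S), c S 1 b = 1)
    (hcoc : ∀ (S : Type u) [CommRing S] [Algebra k S] (a b d : Pt k A S),
      c S a b * c S (a * b) d = c S b d * c S a (b * d)) :
    ∃ χ : A, counit (R := k) χ = 1 ∧
      ∀ (S : Type u) [CommRing S] [Algebra k S] (a b : Pt k A S), c S a b * (a * b) χ = a χ * b χ := by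
  set s₀ := c _ (inl (k := k) A) (inr A) with hs₀
  let mu : Module.Dual k A → Module.Dual k A → Module.Dual k A := fun φ ψ =>
    P φ ψ ∘ₗ LinearMap.mulLeft k s₀ ∘ₗ comul
  have hmu : ∀ φ ψ r, mu φ ψ r = P φ ψ (s₀ * comul r) := fun _ _ _ => rfl
  have hs : ∀ {S : Type u} [CommRing S] [Algebra k S] (g : A ⊗[k] A →ₐ[k] S),
      g s₀ = c S (toConv (g.comp (inl A).ofConv)) (toConv (g.comp (inr A).ofConv)) := fun g =>
    hnat _ _ g _ _
  have mcomm : ∀ φ ψ, mu φ ψ = mu ψ φ := fun φ ψ => by
    ext r
    let g : A ⊗[k] A →ₐ[k] A ⊗[k] A :=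
      Algebra.TensorProduct.lift (inr A).ofConv (inl A).ofConv (fun _ _ ↦ .all ..)
    have e : ∀ z, P ψ φ z = P φ ψ (g z) := fun z => by
      induction z using TensorProduct.induction_on with
      | zero => simp
      | tmul x y => simp [g, mul_comm]
      | add x y hx hy => simp only [map_add, hx, hy]
    rw [hmu, hmu, e, map_mul g, hs g, map_comul g]
    have h1 : g.comp (inl A).ofConv = (inr A).ofConv := Algebra.TensorProduct.lift_comp_includeLeft _ _ _
    have h2 : g.comp (inr A).ofConv = (inl A).ofConv := Algebra.TensorProduct.lift_comp_includeRight' _ _ _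
    rw [h1, h2]
    change _ = P φ ψ (c _ (inr A) (inl A) * ((inr A * inl A : Pt k A (A ⊗[k] A))) r)
    rw [hcomm _ (inr A) (inl A), hab _ (inr A) (inl A), inl_mul_inr, ← hs₀]
  have massoc : ∀ φ ψ θ, mu (mu φ ψ) θ = mu φ (mu ψ θ) := fun φ ψ θ => by
    ext r
    let i₁ : Pt k A ((A ⊗[k] A) ⊗[k] A) := toConv (Algebra.TensorProduct.includeLeft.comp (inl A).ofConv)
    let i₂ : Pt k A ((A ⊗[k] A) ⊗[k] A) := toConv (Algebra.TensorProduct.includeLeft.comp (inr A).ofConv)
    let i₃ : Pt k A ((A ⊗[k] A) ⊗[k] A) := toConv Algebra.TensorProduct.includeRight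
    let Φ := P (P φ ψ) θ
    let g₁ := Algebra.TensorProduct.lift (i₁ * i₂).ofConv i₃.ofConv (fun _ _ ↦ .all ..)
    let g₂ := Algebra.TensorProduct.lift i₂.ofConv i₃.ofConv (fun _ _ ↦ .all ..)
    let g₃ := Algebra.TensorProduct.lift i₁.ofConv (i₂ * i₃).ofConv (fun _ _ ↦ .all ..)
    have h12 : ∀ x, (i₁ * i₂) x = (comul x) ⊗ₜ[k] (1 : A) := fun x => by
      rw [← inl_mul_inr x]
      exact (DFunLike.congr_fun (AlgHom.comp_convMul_distrib
        (Algebra.TensorProduct.includeLeft : A ⊗[k] A →ₐ[k] (A ⊗[k] A) ⊗[k] A) (inl A) (inr A)) x).symm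
    have h23 : ∀ y, (i₂ * i₃) y = g₂ (comul y) := fun y => by
      rw [map_comul g₂]
      have h1 : g₂.comp (inl A).ofConv = i₂.ofConv := Algebra.TensorProduct.lift_comp_includeLeft _ _ _
      have h2 : g₂.comp (inr A).ofConv = i₃.ofConv := Algebra.TensorProduct.lift_comp_includeRight' _ _ _
      rw [h1, h2]
    have el : ∀ z, P (mu φ ψ) θ z = Φ (s₀ ⊗ₜ[k] (1 : A) * g₁ z) := fun z => by
      induction z using TensorProduct.induction_on with
      | zero => simp
      | tmul x y =>
        have e : g₁ (x ⊗ₜ y) = comul x ⊗ₜ[k] y := by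
          change (i₁ * i₂) x * i₃ y = _
          rw [h12]
          simp [i₃]
        rw [e]
        simp [Φ, mu]
      | add x y hx hy => simp only [map_add, mul_add, hx, hy]
    have eg : ∀ x z, Φ (i₁ x * g₂ z) = φ x * P ψ θ z := fun x z => by
      induction z using TensorProduct.induction_on with
      | zero => simp
      | tmul y w =>
        change Φ (i₁ x * (i₂ y * i₃ w)) = _
        simp [Φ, i₁, i₂, i₃, mul_assoc]
      | add a b ha hb => simp only [map_add, mul_add, ha, hb]
    have er : ∀ z, P φ (mu ψ θ) z = Φ (c _ i₂ i₃ * g₃ z) := fun z => by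
      induction z using TensorProduct.induction_on with
      | zero => simp
      | tmul x y =>
        have e : c _ i₂ i₃ * g₃ (x ⊗ₜ y) = i₁ x * g₂ (s₀ * comul y) := by
          change _ * (i₁ x * (i₂ * i₃) y) = _
          rw [h23, map_mul g₂, hs g₂]
          have h1 : g₂.comp (inl A).ofConv = i₂.ofConv := Algebra.TensorProduct.lift_comp_includeLeft _ _ _
          have h2 : g₂.comp (inr A).ofConv = i₃.ofConv := Algebra.TensorProduct.lift_comp_includeRight' _ _ _
          rw [h1, h2]
          exact mul_left_comm _ _ _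
        rw [e, eg]
        simp [mu]
      | add a b ha hb => simp only [map_add, mul_add, ha, hb]
    have hs12 : s₀ ⊗ₜ[k] (1 : A) = c _ i₁ i₂ :=
      hs (Algebra.TensorProduct.includeLeft : A ⊗[k] A →ₐ[k] (A ⊗[k] A) ⊗[k] A)
    rw [hmu, hmu (φ := φ), el, er, map_mul g₁, map_mul g₃, hs g₁, hs g₃, map_comul g₁, map_comul g₃, hs12,
      ← mul_assoc, ← mul_assoc]
    have h1 : g₁.comp (inl A).ofConv = (i₁ * i₂).ofConv := Algebra.TensorProduct.lift_comp_includeLeft _ _ _
    have h2 : g₁.comp (inr A).ofConv = i₃.ofConv := Algebra.TensorProduct.lift_comp_includeRight' _ _ _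
    have h3 : g₃.comp (inl A).ofConv = i₁.ofConv := Algebra.TensorProduct.lift_comp_includeLeft _ _ _
    have h4 : g₃.comp (inr A).ofConv = (i₂ * i₃).ofConv := Algebra.TensorProduct.lift_comp_includeRight' _ _ _
    rw [h1, h2, h3, h4]
    change Φ (c _ i₁ i₂ * c _ (i₁ * i₂) i₃ * (i₁ * i₂ * i₃) r) = Φ (c _ i₂ i₃ * c _ i₁ (i₂ * i₃) * (i₁ * (i₂ * i₃)) r)
    rw [hcoc, _root_.mul_assoc i₁]
  have mone : ∀ φ, mu (counit (R := k)) φ = φ := fun φ => by
    ext r
    let g : A ⊗[k] A →ₐ[k] A :=
      Algebra.TensorProduct.lift (1 : Pt k A A).ofConv (AlgHom.id k A) (fun _ _ ↦ .all ..)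
    have e : ∀ z, P (counit (R := k)) φ z = φ (g z) := fun z => by
      induction z using TensorProduct.induction_on with
      | zero => simp
      | tmul x y => simp [g, ← Algebra.smul_def]
      | add x y hx hy => simp only [map_add, hx, hy]
    rw [hmu, e, map_mul g, hs g, map_comul g]
    have h1 : g.comp (inl A).ofConv = (1 : Pt k A A).ofConv := Algebra.TensorProduct.lift_comp_includeLeft _ _ _
    have h2 : g.comp (inr A).ofConv = AlgHom.id k A := Algebra.TensorProduct.lift_comp_includeRight' _ _ _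
    rw [h1, h2, toConv_ofConv, hone, one_mul, one_mul]
    rfl
  have madd : ∀ φ φ' ψ, mu (φ + φ') ψ = mu φ ψ + mu φ' ψ := fun φ φ' ψ => by
    ext r
    simp [mu, TensorProduct.map_add_left, LinearMap.comp_add]
  have msmul : ∀ (a : k) φ ψ, mu (a • φ) ψ = a • mu φ ψ := fun a φ ψ => by
    ext r
    simp [mu, TensorProduct.map_smul_left, LinearMap.comp_smul]
  letI : CommRing (Module.Dual k A) :=
    { (inferInstance : AddCommGroup (Module.Dual k A)) with
      mul := mu
      one := counit (R := k)
      mul_assoc := massoc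
      mul_comm := mcomm
      one_mul := mone
      mul_one := fun φ => (mcomm _ _).trans (mone φ)
      left_distrib := fun φ ψ θ => (mcomm _ _).trans ((madd ψ θ φ).trans (congrArg₂ (· + ·) (mcomm _ _) (mcomm _ _)))
      right_distrib := madd
      zero_mul := fun φ => by
        change mu 0 φ = 0
        have h := msmul 0 0 φ
        rwa [zero_smul, zero_smul] at h
      mul_zero := fun φ => by
        refine (mcomm φ 0).trans ?_
        have h := msmul 0 0 φ
        rwa [zero_smul, zero_smul] at h }
  letI : Algebra k (Module.Dual k A) := Algebra.ofModule msmul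
    (fun a φ ψ => (mcomm _ _).trans ((msmul a ψ φ).trans (congrArg (a • ·) (mcomm _ _))))
  haveI : Nontrivial (Module.Dual k A) := ⟨⟨1, 0, fun h => by
    have := congrArg (fun φ : Module.Dual k A => φ 1) h
    change counit (R := k) (1 : A) = (0 : k) at this
    rw [Bialgebra.counit_one] at this
    exact one_ne_zero this⟩⟩
  obtain ⟨m, hm⟩ := Ideal.exists_maximal (Module.Dual k A)
  letI : Field (Module.Dual k A ⧸ m) := Ideal.Quotient.field m
  haveI : Algebra.IsIntegral k (Module.Dual k A ⧸ m) := inferInstance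
  let e : k ≃ₐ[k] (Module.Dual k A ⧸ m) :=
    AlgEquiv.ofBijective (Algebra.ofId k _) (IsAlgClosed.algebraMap_bijective_of_isIntegral)
  let F : Module.Dual k A →ₐ[k] k := e.symm.toAlgHom.comp (Ideal.Quotient.mkₐ k m)
  let χ : A := (Module.evalEquiv k A).symm F.toLinearMap
  have hχ : ∀ φ : Module.Dual k A, F φ = φ χ := fun φ => by
    change F.toLinearMap φ = φ χ
    conv_lhs => rw [← (Module.evalEquiv k A).apply_symm_apply F.toLinearMap]
    rfl
  refine ⟨χ, ((hχ _).symm.trans (map_one F)), fun S _ _ a b => ?_⟩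
  have key : s₀ * comul χ = χ ⊗ₜ χ := by
    let bA := Module.finBasis k A
    refine (bA.tensorProduct bA).ext_elem fun ⟨p₁, p₂⟩ => ?_
    have h := map_mul F (bA.coord p₁) (bA.coord p₂)
    rw [hχ, hχ, hχ] at h
    change P (bA.coord p₁) (bA.coord p₂) (s₀ * comul χ) = _ at h
    refine Eq.trans ?_ (h.trans ?_)
    · generalize s₀ * comul χ = z
      induction z using TensorProduct.induction_on with
      | zero => simp
      | tmul x y => simp [Module.Basis.coord_apply, mul_comm]
      | add x y hx hy => simp only [map_add, Finsupp.coe_add, Pi.add_apply, hx, hy]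
    · simp [mul_comm]
  let g : A ⊗[k] A →ₐ[k] S := Algebra.TensorProduct.lift a.ofConv b.ofConv (fun _ _ ↦ .all ..)
  have h := congrArg g key
  rw [map_mul g, hs g, map_comul g] at h
  have h1 : g.comp (inl A).ofConv = a.ofConv := Algebra.TensorProduct.lift_comp_includeLeft _ _ _
  have h2 : g.comp (inr A).ofConv = b.ofConv := Algebra.TensorProduct.lift_comp_includeRight' _ _ _
  rw [h1, h2] at h
  simpa [g] using h

end Groth.Agent.ThetaLib.CocycleChar
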