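import Groth.Agent.ThetaLib.Points

/-!
The projection to the module itself; composition of base changes; inverse images of points along a
homomorphism together with an identification of modules.
-/

set_option autoImplicit false
set_option backward.isDefEq.respectTransparency false
set_option backward.isDefEq.respectTransparency.types false
set_option linter.style.haveILetI false

universe u

open CategoryTheory CategoryTheory.Limits MonoidalCategory CartesianMonoidalCategory MonObj AlgebraicGeometry
open ThetaGrp (transl thetaObj thetaPts IsOverPt bcLift IsBaseChange transl_fst transl_snd transl_mul transl_one)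

noncomputable section

namespace Groth.Agent.ThetaLib

variable {X Y : Obj.{u}} {S : Scheme.{u}} {A B : Over S} [GrpObj A] [GrpObj B]

theorem isIso_fib_of_comp {W : Obj.{u}} (k : W ⟶ X) (φ : X ⟶ Y) [IsIso (fib φ)] [IsIso (fib (k ≫ φ))] :
    IsIso (fib k) := by
  have h : IsIso (fib (k ≫ φ)) := inferInstance
  rw [fib_comp] at h
  exact IsIso.of_isIso_comp_right (fib k) ((Scheme.Modules.pullback k.base).map (fib φ) ≫
    (Scheme.Modules.pullbackComp k.base φ.base).hom.app (md Y))

/-- A module as an object. -/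
abbrev modObj (A : Over S) (L : A.left.Modules) : Obj.{u} := ⟨A.left, L⟩

/-- The projection to the module. -/
def prMap (L : A.left.Modules) (T : Over S) : (thetaObj A L T : Obj.{u}) ⟶ modObj A L :=
  mk' (fst A T).left (𝟙 _)

instance isIso_fib_prMap (L : A.left.Modules) (T : Over S) : IsIso (fib (prMap L T)) := by
  unfold prMap
  change IsIso (𝟙 _)
  infer_instance

theorem pr_aux {Z Z' W : Scheme.{u}} {M : W.Modules} (b : Z' ⟶ W) (c : Z' ⟶ Z) (d : Z ⟶ W) (h : b = c ≫ d) :
    (mk' (X := ⟨Z', (Scheme.Modules.pullback b).obj M⟩) (Y := ⟨Z, (Scheme.Modules.pullback d).obj M⟩) c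
        ((Scheme.Modules.pullbackCongr h).hom.app M ≫ (Scheme.Modules.pullbackComp c d).inv.app M)) ≫
      mk' (X := ⟨Z, (Scheme.Modules.pullback d).obj M⟩) (Y := ⟨W, M⟩) d (𝟙 _) = mk' b (𝟙 _) := by
  subst h
  change mk' (X := ⟨Z', (Scheme.Modules.pullback (c ≫ d)).obj M⟩) (Y := ⟨W, M⟩) (c ≫ d) _ = mk' (c ≫ d) _
  congr 1
  simp [Scheme.Modules.pullbackCongr]
  exact ((Scheme.Modules.pullbackComp c d).inv.app M ≫= Category.id_comp _).trans (Iso.inv_hom_id_app _ M)

variable {L : A.left.Modules} {M : B.left.Modules}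

theorem bcLift_pr {T' T : Over S} (g : T' ⟶ T) : bcLift A L g ≫ prMap L T = prMap L T' :=
  pr_aux (M := L) (fst A T').left (A ◁ g).left (fst A T).left (by rw [← Over.comp_left, whiskerLeft_fst])

theorem bcLift_comp {T'' T' T : Over S} (h : T'' ⟶ T') (g : T' ⟶ T) :
    bcLift A L h ≫ bcLift A L g = bcLift A L (h ≫ g) := by
  refine cancel_cart (prMap L T) ?_ ?_
  · change (A ◁ h).left ≫ (A ◁ g).left = (A ◁ (h ≫ g)).left
    rw [← Over.comp_left, whiskerLeft_comp]
  · rw [Category.assoc, bcLift_pr, bcLift_pr, bcLift_pr]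

theorem bc_trans {T'' T' T : Over S} {h : T'' ⟶ T'} {g : T' ⟶ T} {β : thetaPts A L T''} {gm : thetaPts A L T'}
    {u : thetaPts A L T} (h₁ : IsBaseChange β h gm) (h₂ : IsBaseChange gm g u) : IsBaseChange β (h ≫ g) u := by
  rw [ThetaGrp.IsBaseChange] at h₁ h₂ ⊢
  rw [← bcLift_comp, ← Category.assoc]
  erw [h₁]
  rw [Category.assoc]
  erw [h₂]
  rw [Category.assoc]

variable (f : A ⟶ B) (e : (Scheme.Modules.pullback f.left).obj M ≅ L)

/-- The morphism of modules along `f`. -/
def modMap : modObj A L ⟶ modObj B M := mk' f.left e.inv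

instance isIso_fib_modMap : IsIso (fib (modMap f e)) := by
  unfold modMap
  infer_instance

theorem exists_descMap (T : Over S) :
    ∃ φ : (thetaObj A L T : Obj.{u}) ⟶ thetaObj B M T, φ.base = (f ▷ T).left ∧ IsIso (fib φ) ∧
      φ ≫ prMap M T = prMap L T ≫ modMap f e := by
  obtain ⟨k, hk, hkφ⟩ := exists_lift (prMap M T) (prMap L T ≫ modMap f e) (f ▷ T).left (by
    change (f ▷ T).left ≫ (fst B T).left = (fst A T).left ≫ f.left
    rw [← Over.comp_left, ← Over.comp_left, whiskerRight_fst])
  haveI : IsIso (fib (prMap L T ≫ modMap f e)) := isIso_fib_comp _ _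
  haveI : IsIso (fib (k ≫ prMap M T)) := isIso_fib_congr hkφ.symm
  exact ⟨k, hk, isIso_fib_of_comp k (prMap M T), hkφ⟩

/-- The morphism `(A × T, L_T) ⟶ (B × T, M_T)`. -/
def descMap (T : Over S) : (thetaObj A L T : Obj.{u}) ⟶ thetaObj B M T := (exists_descMap f e T).choose

theorem descMap_base (T : Over S) : (descMap f e T).base = (f ▷ T).left := (exists_descMap f e T).choose_spec.1

instance isIso_fib_descMap (T : Over S) : IsIso (fib (descMap f e T)) := (exists_descMap f e T).choose_spec.2.1

theorem descMap_pr (T : Over S) : descMap f e T ≫ prMap M T = prMap L T ≫ modMap f e :=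
  (exists_descMap f e T).choose_spec.2.2

theorem bcLift_descMap {T' T : Over S} (g : T' ⟶ T) :
    bcLift A L g ≫ descMap f e T = descMap f e T' ≫ bcLift B M g := by
  refine cancel_cart (prMap M T) ?_ ?_
  · change (A ◁ g).left ≫ (descMap f e T).base = (descMap f e T').base ≫ (B ◁ g).left
    rw [descMap_base, descMap_base, ← Over.comp_left, ← Over.comp_left, whisker_exchange]
  · rw [Category.assoc, descMap_pr, Category.assoc, bcLift_pr, descMap_pr, ← Category.assoc, bcLift_pr]

variable [IsMonHom f]

/-- `gm` lifts `β` along `f` and the identification of modules. -/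
def IsDescPt {T : Over S} (gm : thetaPts A L T) (β : thetaPts B M T) : Prop :=
  hm gm ≫ descMap f e T = descMap f e T ≫ hm β

theorem exists_descPt {T : Over S} {β : thetaPts B M T} {x : T ⟶ A} (hx : IsOverPt β (x ≫ f)) :
    ∃ gm : thetaPts A L T, IsDescPt f e gm β ∧ IsOverPt gm x := by
  obtain ⟨k, hk, hkφ⟩ := exists_lift (descMap f e T) (descMap f e T ≫ hm β) (transl A x).left (by
    change _ ≫ (descMap f e T).base = (descMap f e T).base ≫ (hm β).base
    rw [show (hm β).base = _ from hx, descMap_base, ← Over.comp_left, ← Over.comp_left]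
    congr 1
    apply CartesianMonoidalCategory.hom_ext
    · rw [Category.assoc, Category.assoc, whiskerRight_fst, transl_fst, reassoc_of% (transl_fst A x),
        MonObj.mul_comp, MonObj.comp_mul, whiskerRight_fst, whiskerRight_snd_assoc, Category.assoc]
    · rw [Category.assoc, Category.assoc, whiskerRight_snd, transl_snd, transl_snd, whiskerRight_snd])
  haveI : IsIso (fib (descMap f e T ≫ hm β)) := isIso_fib_comp _ _
  haveI : IsIso (fib (k ≫ descMap f e T)) := isIso_fib_congr hkφ.symm
  haveI : IsIso (fib k) := isIso_fib_of_comp k (descMap f e T)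
  obtain ⟨gm, hgm, hgmx⟩ := exists_of_hom (L := L) x k hk
  exact ⟨gm, by rw [IsDescPt, hgm, hkφ], hgmx⟩

theorem isDescPt_mul {T : Over S} {α' β' : thetaPts A L T} {α β : thetaPts B M T}
    (hα : IsDescPt f e α' α) (hβ : IsDescPt f e β' β) : IsDescPt f e (α' * β') (α * β) := by
  rw [IsDescPt] at hα hβ ⊢
  rw [hm_mul, hm_mul, Category.assoc, hα, ← Category.assoc, hβ, Category.assoc]

theorem isDescPt_one {T : Over S} : IsDescPt f e (1 : thetaPts A L T) 1 :=
  (Category.id_comp _).trans (Category.comp_id _).symm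

theorem isDescPt_unique {T : Over S} {α' β' : thetaPts A L T} {β : thetaPts B M T} {x : T ⟶ A}
    (hα : IsDescPt f e α' β) (hβ : IsDescPt f e β' β) (hαx : IsOverPt α' x) (hβx : IsOverPt β' x) : α' = β' :=
  pts_ext (cancel_cart (descMap f e T) (hαx.trans hβx.symm) (hα.trans hβ.symm))

theorem isDescPt_bc {T' T : Over S} {g : T' ⟶ T} {gm : thetaPts A L T} {gm' : thetaPts A L T'} {β : thetaPts B M T}
    {β' : thetaPts B M T'} {x : T ⟶ A} (hx : IsOverPt β (x ≫ f)) (hgm : IsDescPt f e gm β) (hgmx : IsOverPt gm x)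
    (hb : IsBaseChange gm' g gm) (hb' : IsBaseChange β' g β) : IsDescPt f e gm' β' := by
  rw [IsDescPt] at hgm ⊢
  refine cancel_cart (bcLift B M g) ?_ ?_
  · change (hm gm').base ≫ (descMap f e T').base = (descMap f e T').base ≫ (hm β').base
    rw [show (hm gm').base = _ from isOverPt_of_bc hgmx hb, show (hm β').base = _ from isOverPt_of_bc hx hb',
      descMap_base, ← Over.comp_left, ← Over.comp_left]
    congr 1
    apply CartesianMonoidalCategory.hom_ext
    · rw [Category.assoc, Category.assoc, whiskerRight_fst, transl_fst, reassoc_of% (transl_fst A (g ≫ x)),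
        MonObj.mul_comp, MonObj.comp_mul, whiskerRight_fst, whiskerRight_snd_assoc, Category.assoc, Category.assoc]
    · rw [Category.assoc, Category.assoc, whiskerRight_snd, transl_snd, transl_snd, whiskerRight_snd]
  · rw [Category.assoc, Category.assoc, ← bcLift_descMap, ← Category.assoc]
    erw [show hm gm' ≫ bcLift A L g = _ from hb, show hm β' ≫ bcLift B M g = _ from hb']
    rw [Category.assoc, hgm, ← Category.assoc, bcLift_descMap, Category.assoc]

end Groth.Agent.ThetaLib
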