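import Groth.Agent.ThetaLib.Local
import Groth.Agent.ThetaLib.Proj
import Groth.Agent.ThetaLib.CocycleChar
import Groth.Agent.FinHopf.GrpScheme
import Groth.Agent.S0235

/-!
An isotropic finite subgroup of an abelian variety over an algebraically closed field lifts to the theta group.
-/

set_option autoImplicit false
set_option backward.isDefEq.respectTransparency false
set_option backward.isDefEq.respectTransparency.types false
set_option linter.style.haveILetI false
set_option maxHeartbeats 1000000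

universe u

open CategoryTheory CategoryTheory.Limits MonoidalCategory CartesianMonoidalCategory MonObj AlgebraicGeometry
open ThetaGrp (transl thetaObj thetaPts IsOverPt bcLift IsBaseChange transl_fst)
open WithConv

noncomputable section

namespace Groth.Agent.ThetaLib

open W7Cube (pull pull_pull pull_cls pc pull_pc)
attribute [local instance] W7Cube.law

section rel

variable {S : Scheme.{u}} {A : Over S} [GrpObj A] {L : A.left.Modules} {T T' : Over S}

/-- Two points differ by the given function of the parameter. -/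
def IsRatio (α β : thetaPts A L T) (t : Γ(T.left, ⊤)) : Prop :=
  hm α = act (fnT A T t) (hm β)

theorem IsRatio.trans {α β δ : thetaPts A L T} {t s : Γ(T.left, ⊤)} (h : IsRatio α β t) (h' : IsRatio β δ s) :
    IsRatio α δ (t * s) := by
  rw [IsRatio, show fnT A T (t * s) = fnT A T t * fnT A T s from map_mul _ _ _, act_mul, ← h']
  exact h

theorem isRatio_refl (α : thetaPts A L T) : IsRatio α α 1 := by
  rw [IsRatio, fnT_one, act_one]

theorem IsRatio.mul_right {α β : thetaPts A L T} {t : Γ(T.left, ⊤)} (h : IsRatio α β t) (δ : thetaPts A L T) :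
    IsRatio (α * δ) (β * δ) t := by
  obtain ⟨x, hx⟩ := exists_pt δ
  change hm δ ≫ hm α = act _ (hm δ ≫ hm β)
  rw [h, comp_act]
  congr 1
  rw [show (hm δ).base = _ from hx, fnT_transl]

theorem IsRatio.mul_left {α β : thetaPts A L T} {t : Γ(T.left, ⊤)} (h : IsRatio α β t) (δ : thetaPts A L T) :
    IsRatio (δ * α) (δ * β) t := by
  change hm α ≫ hm δ = act _ (hm β ≫ hm δ)
  rw [h, act_comp]

theorem IsRatio.bc {α β : thetaPts A L T} {α' β' : thetaPts A L T'} {g : T' ⟶ T} {t : Γ(T.left, ⊤)}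
    (h : IsRatio α β t) (hα : IsBaseChange α' g α) (hβ : IsBaseChange β' g β) : IsRatio α' β' (g.left.appTop t) := by
  refine cancel_cart (bcLift A L g) ?_ ?_
  · obtain ⟨x, hx⟩ := exists_pt α
    obtain ⟨y, hy⟩ := exists_pt β
    rw [act_base, show (hm α').base = _ from isOverPt_of_bc hx hα, show (hm β').base = _ from isOverPt_of_bc hy hβ]
    have hb := congrArg (fun m => Pseudofunctor.CoGrothendieck.Hom.base m) h
    rw [act_base, show (hm α).base = _ from hx, show (hm β).base = _ from hy] at hb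
    rw [transl_injective hb]
  · rw [act_comp, show hm α' ≫ _ = _ from hα, show hm β' ≫ _ = _ from hβ]
    change bcLift A L g ≫ hm α = act _ (bcLift A L g ≫ hm β)
    rw [h, comp_act, ← fnT_natural]
    rfl

theorem bc_inv {α : thetaPts A L T} {α' : thetaPts A L T'} {g : T' ⟶ T} (h : IsBaseChange α' g α) :
    IsBaseChange α'⁻¹ g α⁻¹ := by
  obtain ⟨z, hz⟩ := exists_pt α⁻¹
  obtain ⟨δ, hδ, -⟩ := exists_bc g hz
  have h1 : IsBaseChange (1 : thetaPts A L T') g 1 := by
    change 𝟙 _ ≫ bcLift A L g = bcLift A L g ≫ 𝟙 _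
    rw [Category.id_comp, Category.comp_id]
  have h2 := bc_mul hδ h
  rw [inv_mul_cancel] at h2
  exact eq_inv_of_mul_eq_one_left (bc_unique h2 h1) ▸ hδ

theorem isOverPt_inv_one {α : thetaPts A L T} (h : IsOverPt α 1) : IsOverPt α⁻¹ 1 := by
  obtain ⟨z, hz⟩ := exists_pt α⁻¹
  have h1 := isOverPt_mul hz h
  rw [inv_mul_cancel, _root_.one_mul] at h1
  exact pt_unique h1 isOverPt_one ▸ hz

variable (hL : PicF.IsInvertible L)

include hL in
theorem IsRatio.unique {α β : thetaPts A L T} {t t' : Γ(T.left, ⊤)} (h : IsRatio α β t) (h' : IsRatio α β t') :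
    t = t' :=
  fnT_injective (1 : T ⟶ A) (act_injective (isInvertible_md hL T) (hm β) (h.symm.trans h'))

include hL in
theorem exists_of_isUnit {β : thetaPts A L T} {x : T ⟶ A} (hx : IsOverPt β x) {t : Γ(T.left, ⊤)} (ht : IsUnit t) :
    ∃ α : thetaPts A L T, IsRatio α β t ∧ IsOverPt α x := by
  haveI : IsIso (fib (act (fnT A T t) (hm β))) := by
    haveI : IsIso (LBDesc.smulMor (md (thetaObj A L T : Obj.{u})) (fnT A T t)) :=
      LBDesc.isIso_smulMor _ (ht.map (snd A T).left.appTop.hom)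
    exact IsIso.comp_isIso
  obtain ⟨α, hα, hαx⟩ := exists_of_hom (L := L) x (act (fnT A T t) (hm β)) hx
  exact ⟨α, hα, hαx⟩

include hL in
theorem exists_ratio (hΓ : Function.Surjective (fnT A T)) {α β : thetaPts A L T} {x : T ⟶ A} (hx : IsOverPt α x)
    (hy : IsOverPt β x) : ∃ t, IsRatio α β t ∧ IsUnit t := by
  obtain ⟨a, ha⟩ := exists_eq_act (isInvertible_md hL T) (hm α) (hm β) (hx.trans hy.symm)
  obtain ⟨b, hb⟩ := exists_eq_act (isInvertible_md hL T) (hm β) (hm α) (hy.trans hx.symm)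
  obtain ⟨t, rfl⟩ := hΓ a
  obtain ⟨t', rfl⟩ := hΓ b
  have h : IsRatio α β t := ha
  have h' : IsRatio β α t' := hb
  exact ⟨t, h, IsUnit.of_mul_eq_one_right t' ((h'.trans h).unique hL (isRatio_refl _))⟩

end rel

variable {k : Type u} [Field k] {A : Over (Spec (CommRingCat.of k))} [GrpObj A] [IsCommMonObj A] [IsProper A.hom]
  [GeometricallyIntegral A.hom] {L : A.left.Modules}

/-- Invertible modules on a scheme finite over a field are trivial. -/
theorem cls_eq_one_of_isFinite {X : Scheme.{u}} (π : X ⟶ Spec (CommRingCat.of k)) [IsFinite π] (M : X.Modules)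
    (hM : PicF.IsInvertible M) : PicGrp.cls M hM = 1 := by
  obtain ⟨V, hV, ⟨e⟩⟩ := S0235.result π M hM (IsLocalRing.closedPoint k)
  have hV' : V = ⊤ := top_le_iff.1 fun x _ => by
    rwa [Subsingleton.elim (α := PrimeSpectrum k) x (IsLocalRing.closedPoint k)]
  subst hV'
  haveI : IsIso (π ⁻¹ᵁ (⊤ : (Spec (CommRingCat.of k)).Opens)).ι := (Scheme.topIso X).isIso_hom
  have h : pull (π ⁻¹ᵁ (⊤ : (Spec (CommRingCat.of k)).Opens)).ι (PicGrp.cls M hM) = 1 := by
    rw [pull_cls, PicGrp.cls_eq_one_iff]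
    exact ⟨((Scheme.Modules.restrictFunctorIsoPullback _).app M).symm ≪≫ e⟩
  have h2 := congrArg (pull (inv (π ⁻¹ᵁ (⊤ : (Spec (CommRingCat.of k)).Opens)).ι)) h
  rw [pull_pull, IsIso.inv_hom_id, map_one, pull_cls] at h2
  rw [← h2, PicGrp.cls_eq_cls_iff]
  exact ⟨((Scheme.Modules.pullbackId _).app M).symm⟩

/-- **an isotropic finite subgroup lifts to the theta group** -/
theorem exists_split [IsAlgClosed k] (hL : PicF.IsInvertible L) {N : Over (Spec (CommRingCat.of k))} [GrpObj N]
    [IsFinite N.hom] (i : N ⟶ A) [IsMonHom i] (hab : ∀ (T : Over (Spec (CommRingCat.of k))) (a b : T ⟶ N), a * b = b * a)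
    (hi : ThetaGrp.IsMumfordTriv A L i) (hiso : ThetaGrp.IsIsotropic L i) :
    ∃ gm : ∀ (T : Over (Spec (CommRingCat.of k))), (T ⟶ N) → thetaPts A L T,
      (∀ T n, IsOverPt (gm T n) (n ≫ i)) ∧
      (∀ T T' (t : T' ⟶ T) (n : T ⟶ N), IsBaseChange (gm T' (t ≫ n)) t (gm T n)) ∧
      ∀ T (a b : T ⟶ N), gm T (a * b) = gm T a * gm T b := by
  have hΓ := fun T : Over (Spec (CommRingCat.of k)) => fnT_surjective (A := A) T
  -- a lift of the inclusion, normalised at the origin
  obtain ⟨d, hd⟩ := (AVAmple.isMumfordTriv_iff L hL i).1 hi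
  obtain ⟨β₀, hβ₀⟩ := exists_lift_pt hL i (AVAmple.mum_eq_one_of_pullback _ _ d hd) (by
    rw [pc, pull_cls]
    exact cls_eq_one_of_isFinite N.hom _ _)
  choose b₀ hb₀ hb₀x using fun (T : Over (Spec (CommRingCat.of k))) (n : T ⟶ N) => exists_bc (L := L) n hβ₀
  have hb₀n : ∀ (T T' : Over (Spec (CommRingCat.of k))) (t : T' ⟶ T) (n : T ⟶ N), IsBaseChange (b₀ T' (t ≫ n)) t (b₀ T n) := fun T T' t n => by
    obtain ⟨δ, hδ, -⟩ := exists_bc t (hb₀x T n)
    exact bc_unique (bc_trans hδ (hb₀ T n)) (hb₀ T' (t ≫ n)) ▸ hδ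
  let b : ∀ T : Over (Spec (CommRingCat.of k)), (T ⟶ N) → thetaPts A L T := fun T n => b₀ T n * (b₀ T 1)⁻¹
  have hb1x : ∀ T : Over (Spec (CommRingCat.of k)), IsOverPt (b₀ T 1) (1 : T ⟶ A) := fun T => by
    have h := hb₀x T 1
    rwa [MonObj.one_comp] at h
  have hbx : ∀ (T : Over (Spec (CommRingCat.of k))) (n : T ⟶ N), IsOverPt (b T n) (n ≫ i) := fun T n => by
    have h := isOverPt_mul (hb₀x T n) (isOverPt_inv_one (hb1x T))
    rwa [_root_.one_mul] at h
  have hbn : ∀ (T T' : Over (Spec (CommRingCat.of k))) (t : T' ⟶ T) (n : T ⟶ N), IsBaseChange (b T' (t ≫ n)) t (b T n) := fun T T' t n => by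
    refine bc_mul (hb₀n T T' t n) (bc_inv ?_)
    have h := hb₀n T T' t 1
    rwa [MonObj.comp_one] at h
  -- its cocycle
  have hex : ∀ (T : Over (Spec (CommRingCat.of k))) (m n : T ⟶ N), ∃ t, IsRatio (b T m * b T n) (b T (m * n)) t ∧ IsUnit t :=
    fun T m n => exists_ratio hL (hΓ T) (isOverPt_mul (hbx T m) (hbx T n))
      (by rw [_root_.mul_comm, ← MonObj.mul_comp]; exact hbx T _)
  choose s hs hsu using hex
  have hsn : ∀ (T T' : Over (Spec (CommRingCat.of k))) (g : T' ⟶ T) (m n : T ⟶ N), g.left.appTop (s T m n) = s T' (g ≫ m) (g ≫ n) := fun T T' g m n => by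
    refine IsRatio.unique hL ((hs T m n).bc (bc_mul (hbn T T' g m) (hbn T T' g n)) (hbn T T' g (m * n))) ?_
    rw [MonObj.comp_mul]
    exact hs _ _ _
  have hscomm : ∀ (T : Over (Spec (CommRingCat.of k))) (m n : T ⟶ N), s T m n = s T n m := fun T m n => by
    refine IsRatio.unique hL (hs T m n) ?_
    rw [hiso T m n _ _ (hbx T m) (hbx T n), hab T m n]
    exact hs T n m
  have hsone : ∀ (T : Over (Spec (CommRingCat.of k))) (n : T ⟶ N), s T 1 n = 1 := fun T n => by
    refine IsRatio.unique hL (hs T 1 n) ?_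
    rw [show b T 1 = 1 from mul_inv_cancel _, _root_.one_mul, _root_.one_mul]
    exact isRatio_refl _
  have hscoc : ∀ (T : Over (Spec (CommRingCat.of k))) (m n l : T ⟶ N), s T m n * s T (m * n) l = s T n l * s T m (n * l) := fun T m n l => by
    refine IsRatio.unique hL (α := b T m * b T n * b T l) (β := b T (m * n * l))
      (((hs T m n).mul_right (b T l)).trans (hs T (m * n) l)) ?_
    rw [_root_.mul_assoc (b T m), _root_.mul_assoc m]
    exact ((hs T n l).mul_left (b T m)).trans (hs T m (n * l))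
  -- the group scheme as the spectrum of a Hopf algebra
  haveI : IsAffine N.left := isAffine_of_isAffineHom N.hom
  obtain ⟨R, _, e, he⟩ := FinHopf.exists_hopf N
  haveI : Module.Finite k R := by
    haveI : IsIso e.hom.left := inferInstanceAs (IsIso ((Over.forget _).map e.hom))
    have h0 : IsFinite (e.hom.left ≫ N.hom) := inferInstance
    rw [Over.w e.hom] at h0
    have h1 : IsFinite (Spec.map (CommRingCat.ofHom (algebraMap (CommRingCat.of k) R))) := h0
    exact RingHom.finite_algebraMap.1 ((IsFinite.SpecMap_iff _).mp h1)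
  let spO : ∀ (S : Type u) [CommRing S] [Algebra k S], Over (Spec (CommRingCat.of k)) := fun S _ _ =>
    (Spec (CommRingCat.of S)).asOver (Spec (CommRingCat.of k))
  let pt : ∀ (S : Type u) [CommRing S] [Algebra k S], WithConv (R →ₐ[k] S) → (spO S ⟶ N) := fun S _ _ a =>
    Spec.mapMulEquiv a ≫ e.hom
  have ptmul : ∀ (S : Type u) [CommRing S] [Algebra k S] (a c : WithConv (R →ₐ[k] S)), pt S (a * c) = pt S a * pt S c :=
    fun S _ _ a c => by simp only [pt, map_mul, MonObj.mul_comp]
  have ptone : ∀ (S : Type u) [CommRing S] [Algebra k S], pt S 1 = 1 :=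
    fun S _ _ => by simp only [pt, map_one, MonObj.one_comp]
  have ptinj : ∀ (S : Type u) [CommRing S] [Algebra k S], Function.Injective (pt S) := fun S _ _ a c h =>
    Spec.mapMulEquiv.injective ((cancel_mono e.hom).1 h)
  let toS : ∀ (S : Type u) [CommRing S] [Algebra k S], Γ((spO S).left, ⊤) →+* S := fun S _ _ =>
    (Scheme.ΓSpecIso (CommRingCat.of S)).hom.hom
  let mapS : ∀ (S S' : Type u) [CommRing S] [Algebra k S] [CommRing S'] [Algebra k S'], (S →ₐ[k] S') → (spO S' ⟶ spO S) :=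
    fun S S' _ _ _ _ g => (Spec.map (CommRingCat.ofHom g.toRingHom)).asOver _
  have ptnat : ∀ (S S' : Type u) [CommRing S] [Algebra k S] [CommRing S'] [Algebra k S'] (g : S →ₐ[k] S')
      (a : WithConv (R →ₐ[k] S)), pt S' (toConv (g.comp a.ofConv)) = mapS S S' g ≫ pt S a := fun S S' _ _ _ _ g a => by
    simp only [pt, ← Category.assoc]
    congr 1
    ext1
    exact (Spec.map_comp (CommRingCat.ofHom a.ofConv.toRingHom) (CommRingCat.ofHom g.toRingHom))
  have toSnat : ∀ (S S' : Type u) [CommRing S] [Algebra k S] [CommRing S'] [Algebra k S'] (g : S →ₐ[k] S')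
      (x : Γ((spO S).left, ⊤)), g (toS S x) = toS S' ((mapS S S' g).left.appTop x) := fun S S' _ _ _ _ g x =>
    (congrArg (fun φ => φ.hom x) (Scheme.ΓSpecIso_naturality (CommRingCat.ofHom g.toRingHom))).symm
  obtain ⟨χ, hχ1, hχ⟩ := CocycleChar.exists_char (k := k) (A := R)
    (fun S _ _ a c => toS S (s _ (pt S a) (pt S c)))
    (fun S S' _ _ _ _ g a c => by rw [ptnat, ptnat, ← hsn, toSnat])
    (fun S _ _ a c => ptinj S (by rw [ptmul, ptmul, hab]))
    (fun S _ _ a c => congrArg _ (hscomm _ _ _))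
    (fun S _ _ c => by rw [ptone, hsone, map_one])
    (fun S _ _ a c l => by rw [← map_mul, ← map_mul, ptmul, ptmul, hscoc])
  let fN : Γ(N.left, ⊤) := e.inv.left.appTop ((Scheme.ΓSpecIso R).inv χ)
  have hfN : ∀ (S : Type u) [CommRing S] [Algebra k S] (a : WithConv (R →ₐ[k] S)),
      toS S ((pt S a).left.appTop fN) = a χ := fun S _ _ a => by
    have he' : e.hom.left.appTop fN = (Scheme.ΓSpecIso R).inv χ := by
      change (e.inv.left.appTop ≫ e.hom.left.appTop) _ = _
      rw [← Scheme.Hom.comp_appTop, ← Over.comp_left, e.hom_inv_id, Over.id_left, Scheme.Hom.id_appTop]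
      rfl
    change toS S ((Spec.map (CommRingCat.ofHom a.ofConv.toRingHom)).appTop (e.hom.left.appTop fN)) = _
    rw [he']
    refine (congrArg (fun φ => φ.hom ((Scheme.ΓSpecIso R).inv χ))
      (Scheme.ΓSpecIso_naturality (CommRingCat.ofHom a.ofConv.toRingHom))).trans ?_
    exact congrArg (fun x => a x) (congrArg (fun φ => φ.hom χ) (Scheme.ΓSpecIso R).inv_hom_id)
  have hu : IsUnit fN := by
    suffices IsUnit χ from (this.map (Scheme.ΓSpecIso R).inv.hom).map e.inv.left.appTop.hom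
    let a : WithConv (R →ₐ[k] R) := toConv (AlgHom.id k R)
    obtain ⟨a', ha'⟩ := Spec.mapMulEquiv.surjective ((pt R a)⁻¹ ≫ e.inv)
    have ha : a * a' = 1 := ptinj R (by
      rw [ptmul, ptone]
      change _ * (Spec.mapMulEquiv a' ≫ e.hom) = 1
      rw [ha', Category.assoc, e.inv_hom_id, Category.comp_id, mul_inv_cancel])
    have h := hχ R a a'
    rw [ha, AlgHom.convOne_apply, hχ1, map_one, _root_.mul_one] at h
    have h' : IsUnit (a χ * a' χ) := h ▸ (hsu _ _ _).map (toS R)
    exact (IsUnit.mul_iff.1 h').1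
  obtain ⟨v, hv⟩ := hu
  obtain ⟨β₁, hβ₁, hβ₁x⟩ := exists_of_isUnit hL (hbx N (𝟙 N)) (v⁻¹).isUnit
  choose gm hgm hgmx using fun (T : Over (Spec (CommRingCat.of k))) (n : T ⟶ N) => exists_bc (L := L) n hβ₁x
  have hgmn : ∀ (T T' : Over (Spec (CommRingCat.of k))) (t : T' ⟶ T) (n : T ⟶ N), IsBaseChange (gm T' (t ≫ n)) t (gm T n) := fun T T' t n => by
    obtain ⟨δ, hδ, -⟩ := exists_bc t (hgmx T n)
    exact bc_unique (bc_trans hδ (hgm T n)) (hgm T' (t ≫ n)) ▸ hδ
  have hgmb : ∀ (T : Over (Spec (CommRingCat.of k))) (n : T ⟶ N), IsRatio (gm T n) (b T n) (n.left.appTop (↑v⁻¹ : Γ(N.left, ⊤))) := fun T n => by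
    have h := hbn N T n (𝟙 N)
    rw [Category.comp_id] at h
    exact hβ₁.bc (hgm T n) h
  have hspec : ∀ (S : Type u) [CommRing S] [Algebra k S] (p q : spO S ⟶ N), gm _ (p * q) = gm _ p * gm _ q := by
    intro S _ _ p q
    obtain ⟨a, ha⟩ := Spec.mapMulEquiv.surjective (p ≫ e.inv)
    obtain ⟨c, hc⟩ := Spec.mapMulEquiv.surjective (q ≫ e.inv)
    obtain rfl : pt S a = p := by
      change Spec.mapMulEquiv a ≫ e.hom = p
      rw [ha, Category.assoc, e.inv_hom_id, Category.comp_id]
    obtain rfl : pt S c = q := by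
      change Spec.mapMulEquiv c ≫ e.hom = q
      rw [hc, Category.assoc, e.inv_hom_id, Category.comp_id]
    have h1 := (((hgmb _ (pt S a)).mul_right (gm _ (pt S c))).trans ((hgmb _ (pt S c)).mul_left _)).trans
      (hs _ (pt S a) (pt S c))
    have h2 := hgmb _ (pt S a * pt S c)
    refine pts_ext (Eq.trans h2 (Eq.trans ?_ (Eq.symm h1)))
    congr 2
    -- the coboundary identity
    have hw : ∀ {T : Over (Spec (CommRingCat.of k))} (n : T ⟶ N),
        n.left.appTop fN * n.left.appTop (↑v⁻¹ : Γ(N.left, ⊤)) = 1 := fun n => by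
      rw [← map_mul, ← hv, Units.mul_inv, map_one]
    have hK : s _ (pt S a) (pt S c) * (pt S a * pt S c).left.appTop fN =
        (pt S a).left.appTop fN * (pt S c).left.appTop fN := by
      apply (Scheme.ΓSpecIso (CommRingCat.of S)).commRingCatIsoToRingEquiv.injective
      change toS S (_ * _) = toS S (_ * _)
      rw [map_mul, map_mul, hfN, hfN, ← ptmul, hfN]
      exact hχ S a c
    have hz := hw (pt S a * pt S c)
    have hx := hw (pt S a)
    have hy := hw (pt S c)
    generalize (pt S a * pt S c).left.appTop (↑v⁻¹ : Γ(N.left, ⊤)) = z' at *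
    generalize (pt S a).left.appTop (↑v⁻¹ : Γ(N.left, ⊤)) = x' at *
    generalize (pt S c).left.appTop (↑v⁻¹ : Γ(N.left, ⊤)) = y' at *
    generalize s _ (pt S a) (pt S c) = w at *
    generalize (pt S a).left.appTop fN = x at *
    generalize (pt S c).left.appTop fN = y at *
    generalize (pt S a * pt S c).left.appTop fN = z at *
    calc z' = (x * x') * (y * y') * z' := by rw [hx, hy, _root_.one_mul, _root_.one_mul]
      _ = x' * y' * (x * y) * z' := by ring
      _ = _ := by rw [← hK]; linear_combination (x' * y' * w) * hz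
  -- reduce to the universal pair
  haveI : IsAffine (N ⊗ N).left := inferInstanceAs (IsAffine (pullback N.hom N.hom))
  let φ := Spec.preimage ((N ⊗ N).left.isoSpec.inv ≫ (N ⊗ N).hom)
  letI : Algebra k Γ((N ⊗ N).left, ⊤) := φ.hom.toAlgebra
  let ψ : (N ⊗ N) ≅ spO Γ((N ⊗ N).left, ⊤) := Over.isoMk (N ⊗ N).left.isoSpec (by
    change _ ≫ Spec.map φ = _
    rw [Spec.map_preimage, Iso.hom_inv_id_assoc])
  refine ⟨gm, fun T n => by simpa using hgmx T n, hgmn, fun T m n => ?_⟩
  have h := hspec _ (ψ.inv ≫ fst N N) (ψ.inv ≫ snd N N)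
  let g := lift m n ≫ ψ.hom
  have em : g ≫ ψ.inv ≫ fst N N = m := by simp [g]
  have en : g ≫ ψ.inv ≫ snd N N = n := by simp [g]
  have h1 := hgmn _ T g ((ψ.inv ≫ fst N N) * (ψ.inv ≫ snd N N))
  rw [MonObj.comp_mul, em, en, h] at h1
  have h2 := bc_mul (hgmn _ T g (ψ.inv ≫ fst N N)) (hgmn _ T g (ψ.inv ≫ snd N N))
  rw [em, en] at h2
  exact bc_unique h1 h2

end Groth.Agent.ThetaLib
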