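import Groth.Agent.LBDesc.Effective
import Groth.Agent.TMul.Power
import Groth.Agent.QC.Basic

/-!
Endomorphisms of invertible modules are multiplications by functions; inverse images of such multiplications.
-/

set_option autoImplicit false
set_option backward.isDefEq.respectTransparency false
set_option backward.isDefEq.respectTransparency.types false
set_option linter.style.haveILetI false

universe u

open CategoryTheory CategoryTheory.Limits AlgebraicGeometry TopologicalSpace Opposite
open Groth.Agent.QC (res resO res_res res_smul resO_resO app_res section_eq_of_locally)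
open Groth.Agent.LBDesc (smulMor smulMor_app isIso_smulMor)
open TMul (IsGen)

noncomputable section

namespace Groth.Agent.ThetaLib

variable {X Y : Scheme.{u}} {M N : X.Modules}

/-- Morphisms of modules are determined by their sections. -/
theorem hom_ext_sections {φ ψ : M ⟶ N} (h : ∀ (V : X.Opens) (s : Γ(M, V)), φ.app V s = ψ.app V s) : φ = ψ :=
  Scheme.Modules.hom_ext _ _ fun V => by ext s; exact h V s

theorem smulMor_mul (M : X.Modules) (a b : Γ(X, ⊤)) : smulMor M (a * b) = smulMor M a ≫ smulMor M b :=
  hom_ext_sections fun V s => by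
    change _ = (smulMor M b).app V ((smulMor M a).app V s)
    rw [smulMor_app, smulMor_app, smulMor_app, map_mul, _root_.mul_comm, mul_smul]

theorem smulMor_one (M : X.Modules) : smulMor M (1 : Γ(X, ⊤)) = 𝟙 M :=
  hom_ext_sections fun V s => by
    change _ = s
    rw [smulMor_app, map_one, one_smul]

theorem smulMor_natural (φ : M ⟶ N) (a : Γ(X, ⊤)) : smulMor M a ≫ φ = φ ≫ smulMor N a :=
  hom_ext_sections fun V s => by
    change φ.app V ((smulMor M a).app V s) = (smulMor N a).app V (φ.app V s)
    rw [smulMor_app, smulMor_app]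
    exact (φ.val.app (op V)).hom.map_smul _ s

theorem smulMor_injective (hM : PicF.IsInvertible M) : Function.Injective (smulMor M) := fun a b h => by
  refine TopCat.Sheaf.eq_of_locally_eq' X.sheaf
    (fun x : X => (TMul.exists_isGen hM x).choose) ⊤ (fun x => homOfLE le_top)
    (fun x _ => Opens.mem_iSup.mpr ⟨x, (TMul.exists_isGen hM x).choose_spec.choose_spec.1⟩) a b fun x => ?_
  obtain ⟨e, hx, he⟩ := (TMul.exists_isGen hM x).choose_spec
  have h' := congrArg (fun φ : M ⟶ M => φ.app _ e) h
  simp only [smulMor_app] at h'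
  refine (he _ le_rfl).1 ?_
  rwa [← QC.res_self M le_rfl e] at h'

/-- An endomorphism of an invertible module is multiplication by a function. -/
theorem exists_eq_smulMor (hM : PicF.IsInvertible M) (φ : M ⟶ M) : ∃ a : Γ(X, ⊤), φ = smulMor M a := by
  choose U e hxU he using fun x : X => TMul.exists_isGen hM x
  choose c hc using fun x : X => (he x (U x) le_rfl).2 (φ.app (U x) (e x))
  have hres : ∀ (x : X) (V : X.Opens) (hV : V ≤ U x),
      resO X hV (c x) • res M hV (e x) = φ.app V (res M hV (e x)) := fun x V hV => by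
    rw [← res_smul, ← app_res, ← hc x]
    exact congrArg (res M hV) (congrArg (c x • ·) (QC.res_self M le_rfl (e x)).symm)
  have hlin : ∀ (x : X) (V : X.Opens) (hV : V ≤ U x) (s : Γ(M, V)), φ.app V s = resO X hV (c x) • s := by
    intro x V hV s
    obtain ⟨d, hd⟩ := (he x V hV).2 s
    subst hd
    rw [show φ.app V (d • res M hV (e x)) = d • φ.app V (res M hV (e x)) from (φ.val.app (op V)).hom.map_smul d _,
      ← hres x V hV, smul_smul, smul_smul, _root_.mul_comm]
  obtain ⟨a, ha, -⟩ := TopCat.Sheaf.existsUnique_gluing' X.sheaf U ⊤ (fun x => homOfLE le_top)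
    (fun x _ => Opens.mem_iSup.mpr ⟨x, hxU x⟩) c (fun x y => by
      change resO X (inf_le_left : U x ⊓ U y ≤ U x) (c x) = resO X (inf_le_right : U x ⊓ U y ≤ U y) (c y)
      refine ((he x).res inf_le_left _ le_rfl).1 ?_
      change _ • res M le_rfl _ = _ • res M le_rfl _
      rw [QC.res_self, ← hlin x _ inf_le_left, ← hlin y _ inf_le_right])
  refine ⟨a, hom_ext_sections fun V s => section_eq_of_locally fun y hy => ?_⟩
  refine ⟨V ⊓ U y, inf_le_left, ⟨hy, hxU y⟩, ?_⟩
  rw [app_res, app_res, hlin y _ inf_le_right, smulMor_app]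
  have h2 : resO X (le_top : U y ≤ ⊤) a = c y := ha y
  rw [← h2, resO_resO]

theorem isUnit_of_isIso_smulMor (hM : PicF.IsInvertible M) {a : Γ(X, ⊤)} [IsIso (smulMor M a)] : IsUnit a := by
  obtain ⟨b, hb⟩ := exists_eq_smulMor hM (inv (smulMor M a))
  refine IsUnit.of_mul_eq_one b (smulMor_injective hM ?_)
  rw [smulMor_mul, smulMor_one, ← hb, IsIso.hom_inv_id]

/-- The inverse image of multiplication by a function. -/
theorem pullback_map_smulMor (f : X ⟶ Y) (L : Y.Modules) (b : Γ(Y, ⊤)) :
    (Scheme.Modules.pullback f).map (smulMor L b) =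
      smulMor ((Scheme.Modules.pullback f).obj L) (f.appTop b) := by
  apply ((Scheme.Modules.pullbackPushforwardAdjunction f).homEquiv _ _).injective
  rw [Adjunction.homEquiv_unit, Adjunction.homEquiv_unit]
  refine ((Scheme.Modules.pullbackPushforwardAdjunction f).unit_naturality (smulMor L b)).trans ?_
  refine hom_ext_sections fun V s => ?_
  change ((Scheme.Modules.pullbackPushforwardAdjunction f).unit.app L).app V ((smulMor L b).app V s) =
    (smulMor _ (f.appTop b)).app (f ⁻¹ᵁ V) (ProjMor.eta f L V s)
  rw [smulMor_app, smulMor_app]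
  change ProjMor.eta f L V (resO Y (le_top : V ≤ ⊤) b • s) = _
  rw [ProjMor.eta_smul]
  congr 1
  exact (ConcreteCategory.congr_hom (f.naturality (homOfLE (le_top : V ≤ ⊤)).op) b : _)

end Groth.Agent.ThetaLib
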