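import Groth.Agent.InvGen.Basic
import Groth.Agent.ThetaLib.Scalar
import Groth.Agent.MeroLib.Sections

/-!
Morphisms out of a module given on local generators.
-/

set_option autoImplicit false
set_option backward.isDefEq.respectTransparency false
set_option backward.isDefEq.respectTransparency.types false
set_option linter.style.haveILetI false

universe u

open CategoryTheory CategoryTheory.Limits AlgebraicGeometry TopologicalSpace Opposite
open Groth.Agent.QC (res resO res_res res_smul resO_resO app_res res_self section_eq_of_locally)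
open TMul (IsGen)

noncomputable section

namespace Groth.Agent.ThetaLib

variable {X : Scheme.{u}} {M N : X.Modules}

/-- morphisms agree when they agree on local generators -/
theorem hom_ext_gens {κ : Type*} (U : κ → X.Opens) (e : ∀ i, Γ(M, U i)) (hU : ∀ x : X, ∃ i, x ∈ U i)
    (he : ∀ i, IsGen (e i)) {φ ψ : M ⟶ N} (h : ∀ i, φ.app (U i) (e i) = ψ.app (U i) (e i)) : φ = ψ :=
  hom_ext_sections fun V s => section_eq_of_locally fun x hx => by
    obtain ⟨i, hi⟩ := hU x
    refine ⟨V ⊓ U i, inf_le_left, ⟨hx, hi⟩, ?_⟩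
    obtain ⟨c, hc⟩ := (he i _ inf_le_right).2 (res M inf_le_left s)
    simp only at hc
    rw [app_res, app_res, ← hc, Scheme.Modules.Hom.app_smul, Scheme.Modules.Hom.app_smul, ← app_res, ← app_res, h i]

/-- a morphism mapping generators to generators is an isomorphism -/
theorem isIso_of_gens {κ : Type*} (U : κ → X.Opens) (e : ∀ i, Γ(M, U i)) (hU : ∀ x : X, ∃ i, x ∈ U i)
    (he : ∀ i, IsGen (e i)) (φ : M ⟶ N) (h : ∀ i, IsGen (φ.app (U i) (e i))) : IsIso φ := by
  have hloc : ∀ (i : κ) (W : X.Opens) (_ : W ≤ U i), Function.Bijective (φ.app W) := fun i W hW => by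
    refine (Function.Bijective.of_comp_iff (φ.app W) (he i W hW)).1 ?_
    have hcomp : (φ.app W) ∘ (fun c : Γ(X, W) => c • res M hW (e i)) =
        fun c : Γ(X, W) => c • res N hW (φ.app (U i) (e i)) := funext fun c => by
      rw [Function.comp_apply, Scheme.Modules.Hom.app_smul, ← app_res]
    rw [hcomp]
    exact h i W hW
  haveI : Epi φ := InvGen.epi_of_locally φ fun T t x hx => by
    obtain ⟨i, hi⟩ := hU x
    exact ⟨T ⊓ U i, inf_le_left, ⟨hx, hi⟩, (hloc i _ inf_le_right).2 _⟩
  haveI : Mono φ := (QC.mono_iff_app_injective _).2 fun W a b hab => section_eq_of_locally fun x hx => by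
    obtain ⟨i, hi⟩ := hU x
    refine ⟨W ⊓ U i, inf_le_left, ⟨hx, hi⟩, (hloc i _ inf_le_right).1 ?_⟩
    rw [← app_res φ, ← app_res φ, hab]
  exact isIso_of_mono_of_epi φ

variable {κ : Type*} {U : κ → X.Opens} {e : ∀ i, Γ(M, U i)} {q : ∀ i, Γ(N, U i)}

variable (e q) in
/-- the expected image of a section -/
def IsImg {V : X.Opens} (s : Γ(M, V)) (t : Γ(N, V)) : Prop :=
  ∀ (i : κ) (W : X.Opens) (hW : W ≤ V) (hi : W ≤ U i) (c : Γ(X, W)),
    res M hW s = c • res M hi (e i) → res N hW t = c • res N hi (q i)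

theorem isImg_unique (hU : ∀ x : X, ∃ i, x ∈ U i) (he : ∀ i, IsGen (e i)) {V : X.Opens} {s : Γ(M, V)}
    {t t' : Γ(N, V)} (h : IsImg e q s t) (h' : IsImg e q s t') : t = t' :=
  section_eq_of_locally fun x hx => by
    obtain ⟨i, hi⟩ := hU x
    obtain ⟨c, hc⟩ := (he i (V ⊓ U i) inf_le_right).2 (res M inf_le_left s)
    exact ⟨V ⊓ U i, inf_le_left, ⟨hx, hi⟩, (h i _ _ _ c hc.symm).trans (h' i _ _ _ c hc.symm).symm⟩

theorem exists_hom_gens (hU : ∀ x : X, ∃ i, x ∈ U i) (he : ∀ i, IsGen (e i))
    (hc : ∀ (i j : κ) (W : X.Opens) (hi : W ≤ U i) (hj : W ≤ U j) (c : Γ(X, W)),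
      res M hi (e i) = c • res M hj (e j) → res N hi (q i) = c • res N hj (q j)) :
    ∃ φ : M ⟶ N, ∀ i, φ.app (U i) (e i) = q i := by
  have hex : ∀ (V : X.Opens) (s : Γ(M, V)), ∃ t : Γ(N, V), IsImg e q s t := by
    intro V s
    choose c hcs using fun i => (he i (V ⊓ U i) inf_le_right).2 (res M inf_le_left s)
    have key : ∀ (i j : κ) (W : X.Opens) (hi : W ≤ V ⊓ U i) (hj : W ≤ U j) (d : Γ(X, W)),
        res M (hi.trans inf_le_left) s = d • res M hj (e j) →
        res N hi (c i • res N inf_le_right (q i)) = d • res N hj (q j) := by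
      intro i j W hi hj d hd
      obtain ⟨f, hf⟩ := (he j W hj).2 (res M (hi.trans inf_le_right) (e i))
      simp only at hf
      have e1 := congrArg (res M hi) (hcs i)
      rw [res_smul, res_res, res_res, hd, ← hf, smul_smul] at e1
      rw [res_smul, res_res, hc i j W _ hj f hf.symm, smul_smul, (he j W hj).1 e1]
    obtain ⟨(t : Γ(N, V)), ht, -⟩ := TopCat.Sheaf.existsUnique_gluing' (Groth.Agent.QC.abSheaf N) (fun i => V ⊓ U i) V
      (fun _ => homOfLE inf_le_left) (fun z hz => Opens.mem_iSup.2 ((hU z).imp fun i hi => ⟨hz, hi⟩))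
      (fun i => c i • res N inf_le_right (q i)) (fun i j => by
        let W := (V ⊓ U i) ⊓ (V ⊓ U j)
        change res N (inf_le_left : W ≤ _) _ = res N (inf_le_right : W ≤ _) _
        obtain ⟨d, hd⟩ := (he j W (inf_le_right.trans inf_le_right)).2 (res M (inf_le_left.trans inf_le_left) s)
        exact (key i j W inf_le_left _ d hd.symm).trans (key j j W inf_le_right _ d hd.symm).symm)
    refine ⟨t, fun j W hW hj d hd => section_eq_of_locally fun x hx => ?_⟩
    obtain ⟨i, hi⟩ := hU x
    refine ⟨W ⊓ U i, inf_le_left, ⟨hx, hi⟩, ?_⟩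
    have e2 := key i j (W ⊓ U i) (inf_le_inf hW le_rfl) (inf_le_left.trans hj) (resO X inf_le_left d) (by
      have := congrArg (res M (inf_le_left : W ⊓ U i ≤ W)) hd
      rwa [res_smul, res_res, res_res] at this)
    rw [res_res, res_smul, res_res, ← e2, ← show res N (inf_le_left : V ⊓ U i ≤ V) t = _ from ht i, res_res]
  choose im him using hex
  have hadd : ∀ (V : X.Opens) (s s' : Γ(M, V)), im V (s + s') = im V s + im V s' := fun V s s' =>
    isImg_unique hU he (him V _) fun i W hW hi c h => by
      obtain ⟨a, ha⟩ := (he i W hi).2 (res M hW s)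
      obtain ⟨b, hb⟩ := (he i W hi).2 (res M hW s')
      simp only at ha hb
      rw [map_add, ← ha, ← hb, ← add_smul] at h
      rw [map_add, him V s i W hW hi a ha.symm, him V s' i W hW hi b hb.symm, ← add_smul, (he i W hi).1 h]
  have hsmul : ∀ (V : X.Opens) (r : Γ(X, V)) (s : Γ(M, V)), im V (r • s) = r • im V s := fun V r s =>
    isImg_unique hU he (him V _) fun i W hW hi c h => by
      obtain ⟨a, ha⟩ := (he i W hi).2 (res M hW s)
      simp only at ha
      rw [res_smul, ← ha, smul_smul] at h
      rw [res_smul, him V s i W hW hi a ha.symm, smul_smul, (he i W hi).1 h]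
  let φ : M ⟶ N := ⟨PresheafOfModules.homMk
    { app := fun V => AddCommGrpCat.ofHom (AddMonoidHom.mk' (im V.unop) (hadd V.unop))
      naturality := fun V W h => by
        ext s
        exact isImg_unique hU he (him W.unop _) fun i W' hW hi c hsc => by
          change res N hW (res N (leOfHom h.unop) (im V.unop s)) = _
          change res M hW (res M (leOfHom h.unop) s) = _ at hsc
          rw [res_res] at hsc ⊢
          exact him V.unop s i W' _ hi c hsc }
    fun V r s => hsmul V.unop r s⟩
  refine ⟨φ, fun i => ?_⟩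
  have := him (U i) (e i) i (U i) le_rfl le_rfl 1 (by rw [one_smul])
  rwa [one_smul, res_self, res_self] at this

end Groth.Agent.ThetaLib
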