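import Groth.Agent.ThetaLib.Sect

/-!
Frames of an invertible module along a morphism, in coordinates.
-/

set_option autoImplicit false
set_option backward.isDefEq.respectTransparency false
set_option backward.isDefEq.respectTransparency.types false
set_option linter.style.haveILetI false
set_option maxHeartbeats 1000000

universe u

open CategoryTheory CategoryTheory.Limits AlgebraicGeometry TopologicalSpace Opposite
open Groth.Agent.QC (res resO res_res res_smul resO_resO app_res res_self section_eq_of_locally)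
open ProjMor (ev ev_res ev_resO eta eta_res eta_smul)
open TMul (IsGen)

noncomputable section

namespace Groth.Agent.ThetaLib

/-- a scheme with its structure module -/
abbrev uObj (T : Scheme.{u}) : Obj.{u} := ⟨T, Coh.structureModule T⟩

variable {T T' : Scheme.{u}}

/-- a morphism of schemes as a cartesian morphism of structure modules -/
def uMap (g : T' ⟶ T) : uObj T' ⟶ uObj T := mk' g (PicLoc.pullbackStructureIso g).inv

instance isIso_fib_uMap (g : T' ⟶ T) : IsIso (fib (uMap g)) :=
  inferInstanceAs (IsIso (PicLoc.pullbackStructureIso g).inv)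

theorem pl_uMap (g : T' ⟶ T) (V : T.Opens) (a : Γ(T, V)) :
    pl (uMap g) V a = g.app V a := by
  refine fib_app_injective (uMap g) _ ((fib_pl (uMap g) V a).trans ?_)
  have h : (Scheme.Modules.pullbackPushforwardAdjunction g).homEquiv (Coh.structureModule T) (Coh.structureModule T')
      (PicLoc.pullbackStructureIso g).hom = SheafOfModules.unitToPushforwardObjUnit g.toRingCatSheafHom :=
    Equiv.apply_symm_apply _ _
  rw [Adjunction.homEquiv_unit] at h
  have h1 : (PicLoc.pullbackStructureIso g).hom.app (g ⁻¹ᵁ V) (eta g (Coh.structureModule T) V a) = g.app V a :=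
    congrArg (fun φ : Coh.structureModule T ⟶
      (Scheme.Modules.pushforward g).obj (Coh.structureModule T') => φ.app V a) h
  change _ = (PicLoc.pullbackStructureIso g).inv.app (g ⁻¹ᵁ V) (g.app V a)
  rw [← h1]
  exact (congrArg (fun φ : (Scheme.Modules.pullback g).obj (Coh.structureModule T) ⟶
    (Scheme.Modules.pullback g).obj (Coh.structureModule T) => φ.app _ (eta g (Coh.structureModule T) V a))
    (PicLoc.pullbackStructureIso g).hom_inv_id).symm

/-- the unit section generates -/
theorem isGen_one (T : Scheme.{u}) (U : T.Opens) : IsGen (N := Coh.structureModule T) (U := U) (1 : Γ(T, U)) := by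
  intro V hV
  have : (fun c : Γ(T, V) => c • res (Coh.structureModule T) hV (1 : Γ(T, U))) = fun c : Γ(T, V) => c := by
    funext c
    change c * resO T hV (1 : Γ(T, U)) = c
    rw [map_one, _root_.mul_one]
  rw [this]
  exact Function.bijective_id

theorem isGen_unit {U : T.Opens} {a : Γ(T, U)} (ha : IsUnit a) : IsGen (N := Coh.structureModule T) (U := U) a := by
  have h := W7Hull.isGen_smul (isGen_one T U) ha
  rwa [show (a • (1 : Γ(T, U)) : Γ(Coh.structureModule T, U)) = a from _root_.mul_one a] at h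

variable (W : Obj.{u})

/-- frames of the module of `W` over a scheme -/
def Frame (T : Scheme.{u}) : Type u := {c : uObj T ⟶ W // IsIso (fib c)}

variable {W}

instance isIso_fib_frame (c : Frame W T) : IsIso (fib c.1) := c.2

/-- the coordinate of a section in a frame -/
def coord (c : Frame W T) (U : W.base.Opens) (p : Γ(md W, U)) : Γ(T, c.1.base ⁻¹ᵁ U) := pl c.1 U p

theorem coord_res (c : Frame W T) {U V : W.base.Opens} (h : V ≤ U) (p : Γ(md W, U)) :
    resO T (c.1.base.preimage_mono h) (coord c U p) = coord c V (res (md W) h p) := pl_res c.1 h p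

theorem coord_smul (c : Frame W T) (U : W.base.Opens) (a : Γ(W.base, U)) (p : Γ(md W, U)) :
    coord c U (a • p) = c.1.base.app U a * coord c U p := pl_smul c.1 U a p

theorem isUnit_coord (c : Frame W T) {U : W.base.Opens} {p : Γ(md W, U)} (hp : IsGen p) : IsUnit (coord c U p) := by
  obtain ⟨a, ha⟩ := (isGen_pl c.1 hp _ le_rfl).2 (1 : Γ(T, c.1.base ⁻¹ᵁ U))
  simp only [res_self] at ha
  exact IsUnit.of_mul_eq_one_right a ha

/-- frames are determined by their base and the coordinates of the sections -/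
theorem frame_ext (hW : PicF.IsInvertible (md W)) {c c' : Frame W T} (hb : c.1.base = c'.1.base)
    (h : ∀ (U : W.base.Opens) (p : Γ(md W, U)),
      coord c U p = resO T (le_of_eq (by rw [hb])) (coord c' U p)) : c = c' :=
  Subtype.ext (cart_ext hb h hW)

/-- frames pull back -/
def Frame.pull (g : T' ⟶ T) (c : Frame W T) : Frame W T' := ⟨uMap g ≫ c.1, isIso_fib_comp _ _⟩

theorem coord_pull (g : T' ⟶ T) (c : Frame W T) (U : W.base.Opens) (p : Γ(md W, U)) :
    coord (c.pull g) U p = g.app (c.1.base ⁻¹ᵁ U) (coord c U p) := by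
  haveI : IsIso (fib (uMap g ≫ c.1)) := isIso_fib_comp _ _
  exact (pl_comp (uMap g) c.1 U p).trans (pl_uMap g _ _)

theorem frame_ext_gens {κ : Type*} {c c' : Frame W T} (hb : c.1.base = c'.1.base) (O : κ → W.base.Opens)
    (p : ∀ i, Γ(md W, O i)) (hp : ∀ i, IsGen (p i)) (hcov : ∀ t : T, ∃ i, c.1.base t ∈ O i)
    (h : ∀ i, coord c (O i) (p i) = resO T (le_of_eq (by rw [hb])) (coord c' (O i) (p i))) : c = c' := by
  obtain ⟨⟨b, a⟩, hc⟩ := c
  obtain ⟨⟨b', a'⟩, hc'⟩ := c'
  obtain rfl : b = b' := hb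
  haveI : IsIso (a : md (uObj T) ⟶ _) := hc
  haveI : IsIso (a' : md (uObj T) ⟶ _) := hc'
  have key : inv (a : md (uObj T) ⟶ _) = inv (a' : md (uObj T) ⟶ _) :=
    hom_ext_gens (fun i => b ⁻¹ᵁ O i) (fun i => eta b (md W) (O i) (p i)) hcov
      (fun i => C1Cap.isGen_eta b (hp i)) fun i => (h i).trans (res_self (Coh.structureModule T) _ _)
  refine Subtype.ext ?_
  change mk' b (a : md (uObj T) ⟶ _) = mk' b (a' : md (uObj T) ⟶ _)
  congr 1
  exact IsIso.inv_eq_inv.1 key

theorem exists_gens (hW : PicF.IsInvertible (md W)) :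
    ∃ (O : W.base → W.base.Opens) (p : ∀ x, Γ(md W, O x)), (∀ x, x ∈ O x) ∧ ∀ x, IsGen (p x) := by
  choose O p hO hp using fun x => TMul.exists_isGen hW x
  exact ⟨O, p, hO, hp⟩

theorem pull_id (hW : PicF.IsInvertible (md W)) (c : Frame W T) : c.pull (𝟙 T) = c := by
  refine frame_ext hW (Category.id_comp _) fun U p => ?_
  rw [coord_pull]
  change coord c U p = resO T (le_refl _) (coord c U p)
  exact (QC.resO_self _ _).symm

theorem pull_comp (hW : PicF.IsInvertible (md W)) {T'' : Scheme.{u}} (h : T'' ⟶ T') (g : T' ⟶ T) (c : Frame W T) :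
    c.pull (h ≫ g) = (c.pull g).pull h := by
  refine frame_ext hW (Category.assoc _ _ _) fun U p => ?_
  rw [coord_pull, coord_pull, coord_pull]
  change _ = resO T'' _ ((g.app _ ≫ h.app _) (coord c U p))
  rw [← Scheme.Hom.comp_app]
  simp [resO]

/-- a frame from coordinates of local generators -/
theorem exists_frame {κ : Type*} (b : T ⟶ W.base) (O : κ → W.base.Opens) (p : ∀ i, Γ(md W, O i))
    (hp : ∀ i, IsGen (p i)) (hcov : ∀ t : T, ∃ i, b t ∈ O i) (a : ∀ i, Γ(T, b ⁻¹ᵁ O i))
    (ha : ∀ i, IsUnit (a i))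
    (hc : ∀ (i j : κ) (V : T.Opens) (hi : V ≤ b ⁻¹ᵁ O i) (hj : V ≤ b ⁻¹ᵁ O j) (d : Γ(T, V)),
      res ((Scheme.Modules.pullback b).obj (md W)) hi (eta b (md W) (O i) (p i)) =
        d • res ((Scheme.Modules.pullback b).obj (md W)) hj (eta b (md W) (O j) (p j)) →
      resO T hi (a i) = d * resO T hj (a j)) :
    ∃ c : Frame W T, ∃ hb : c.1.base = b, ∀ i, coord c (O i) (p i) = resO T (le_of_eq (by rw [hb])) (a i) := by
  obtain ⟨φ, hφ⟩ := exists_hom_gens (M := (Scheme.Modules.pullback b).obj (md W)) (N := Coh.structureModule T)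
    (U := fun i => b ⁻¹ᵁ O i) (e := fun i => eta b (md W) (O i) (p i)) (q := a) hcov
    (fun i => C1Cap.isGen_eta b (hp i)) hc
  haveI : IsIso φ := isIso_of_gens (fun i => b ⁻¹ᵁ O i) (fun i => eta b (md W) (O i) (p i)) hcov
    (fun i => C1Cap.isGen_eta b (hp i)) φ fun i => by rw [hφ]; exact isGen_unit (ha i)
  haveI : IsIso (fib (mk' (X := uObj T) b (inv φ))) := inferInstanceAs (IsIso (inv φ))
  let c : Frame W T := ⟨mk' (X := uObj T) b (inv φ), inferInstance⟩
  have hc' : ∀ i, coord c (O i) (p i) = φ.app (b ⁻¹ᵁ O i) (eta b (md W) (O i) (p i)) := fun i =>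
    pl_mk' (X' := uObj T) b φ (O i) (p i)
  exact ⟨c, rfl, fun i => ((hc' i).trans (hφ i)).trans (QC.resO_self _ _).symm⟩

end Groth.Agent.ThetaLib
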