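import Groth.Agent.ThetaLib.Sect
import Groth.Agent.LBDesc.Func

/-!
Cartesian morphisms descend along flat surjective quasi-compact cartesian coverings.
-/

set_option autoImplicit false
set_option backward.isDefEq.respectTransparency false
set_option backward.isDefEq.respectTransparency.types false
set_option linter.style.haveILetI false
set_option maxHeartbeats 1000000

universe u

open CategoryTheory CategoryTheory.Limits AlgebraicGeometry TopologicalSpace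
open Groth.Agent.QC (res resO res_res res_smul resO_resO app_res res_self section_eq_of_locally)
open ProjMor (ev ev_res ev_resO eta eta_res eta_smul)
open TMul (IsGen)

noncomputable section

namespace Groth.Agent.ThetaLib

variable {X' X X'' : Obj.{u}} (φ : X' ⟶ X) [IsIso (fib φ)] [Flat φ.base] [Surjective φ.base] [QuasiCompact φ.base]

/-- inverse images of sections along a covering are injective -/
theorem pl_injective (hX : PicF.IsInvertible (md X)) (U : X.base.Opens) : Function.Injective (pl φ U) := by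
  intro s s' h
  refine section_eq_of_locally fun x hx => ?_
  obtain ⟨O, p, hxO, hp⟩ := TMul.exists_isGen hX x
  refine ⟨U ⊓ O, inf_le_left, ⟨hx, hxO⟩, ?_⟩
  obtain ⟨c, hc⟩ := (hp (U ⊓ O) inf_le_right).2 (res _ inf_le_left s)
  obtain ⟨c', hc'⟩ := (hp (U ⊓ O) inf_le_right).2 (res _ inf_le_left s')
  simp only at hc hc'
  have h1 := congrArg (res (md X') (φ.base.preimage_mono (inf_le_left : U ⊓ O ≤ U))) h
  rw [pl_res φ inf_le_left, pl_res φ inf_le_left, ← hc, ← hc', pl_smul, pl_smul] at h1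
  have hg := isGen_pl φ (hp.res (inf_le_right : U ⊓ O ≤ O))
  have h2 := (hg _ le_rfl).1 (a₁ := φ.base.app _ c) (a₂ := φ.base.app _ c') (by
    simpa only [res_self] using h1)
  obtain ⟨b, -, hb⟩ := LBDesc.existsUnique_desc_open φ.base (U ⊓ O) (φ.base.app _ c) (fun a a' V ha ha' e => by
    rw [show φ.base.app (U ⊓ O) c = ev φ.base (U ⊓ O) (φ.base ⁻¹ᵁ (U ⊓ O)) le_rfl c by
      simp [ProjMor.ev, Scheme.Hom.app_eq_appLE], LBDesc.ev_comp, LBDesc.ev_comp]
    exact LBDesc.ev_congr e _ _ _)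
  have hcc : c = c' := (hb c (by simp [ProjMor.ev, Scheme.Hom.app_eq_appLE])).trans
    (hb c' (by rw [h2]; simp [ProjMor.ev, Scheme.Hom.app_eq_appLE])).symm
  rw [← hc, ← hc', hcc]

/-- uniqueness of descended morphisms -/
theorem descHom_unique (hX : PicF.IsInvertible (md X)) {W : Obj.{u}} (hW : PicF.IsInvertible (md W))
    {k k' : X ⟶ W} [IsIso (fib k)] [IsIso (fib k')] (hb : k.base = k'.base) (h : φ ≫ k = φ ≫ k') : k = k' := by
  refine cart_ext hb (fun U s => ?_) hW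
  haveI : IsIso (fib (φ ≫ k)) := isIso_fib_comp _ _
  haveI : IsIso (fib (φ ≫ k')) := isIso_fib_comp _ _
  refine pl_injective φ hX _ ?_
  rw [← pl_res φ, ← pl_comp φ k, ← pl_comp φ k']
  exact (res_self _ le_rfl _).symm.trans (pl_congr h le_rfl _ s)

variable (π₁ π₂ : X'' ⟶ X') [IsIso (fib π₁)] [IsIso (fib π₂)]
  (hP : IsPullback π₁.base π₂.base φ.base φ.base) (hφ : π₁ ≫ φ = π₂ ≫ φ) (hX : PicF.IsInvertible (md X))

include hP hφ hX in
/-- the core: a module over the same base with invariant identification -/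
theorem exists_iso_desc (Q : X.base.Modules) (hQ : PicF.IsInvertible Q)
    (a : md X' ⟶ (Scheme.Modules.pullback φ.base).obj Q) [IsIso a]
    [IsIso (fib (mk' (Y := ⟨X.base, Q⟩) φ.base a))]
    (ha : π₁ ≫ mk' (Y := ⟨X.base, Q⟩) φ.base a = π₂ ≫ mk' (Y := ⟨X.base, Q⟩) φ.base a) :
    ∃ κ : Q ⟶ md X, IsIso κ ∧ ∀ (V : X.base.Opens) (s : Γ(Q, V)),
      pl φ V (κ.app V s) = pl (mk' (Y := ⟨X.base, Q⟩) φ.base a) V s := by
  let ψ : X' ⟶ (⟨X.base, Q⟩ : Obj.{u}) := mk' φ.base a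
  let g := φ.base
  haveI : IsIso (fib (π₁ ≫ ψ)) := isIso_fib_comp _ _
  haveI : IsIso (fib (π₂ ≫ ψ)) := isIso_fib_comp _ _
  haveI : IsIso (fib (π₁ ≫ φ)) := isIso_fib_comp _ _
  haveI : IsIso (fib (π₂ ≫ φ)) := isIso_fib_comp _ _
  choose OP p hxP hp using fun x => TMul.exists_isGen hX x
  choose OQ q hxQ hq using fun x => TMul.exists_isGen hQ x
  let D : X.base → X.base.Opens := fun x => OP x ⊓ OQ x
  let pD : ∀ x, Γ(md X, D x) := fun x => res _ inf_le_left (p x)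
  let qD : ∀ x, Γ(Q, D x) := fun x => res _ inf_le_right (q x)
  have hpD : ∀ x, IsGen (pD x) := fun x => (hp x).res _
  have hqD : ∀ x, IsGen (qD x) := fun x => (hq x).res _
  have hcov : ∀ x, ∃ y, x ∈ D y := fun x => ⟨x, hxP x, hxQ x⟩
  -- the image of each generator
  have him : ∀ x, ∃ t : Γ(md X, D x), IsGen t ∧ pl φ (D x) t = pl ψ (D x) (qD x) := by
    intro x
    obtain ⟨c, hc⟩ := (isGen_pl φ (hpD x) _ le_rfl).2 (pl ψ (D x) (qD x))
    simp only [res_self] at hc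
    have hP1 : π₁.base ⁻¹ᵁ (g ⁻¹ᵁ D x) ≤ π₂.base ⁻¹ᵁ (g ⁻¹ᵁ D x) := by
      rw [← Scheme.Hom.comp_preimage, ← Scheme.Hom.comp_preimage, hP.w]
    let P := π₁.base ⁻¹ᵁ (g ⁻¹ᵁ D x)
    have hinv : ev π₁.base (g ⁻¹ᵁ D x) P le_rfl c = ev π₂.base (g ⁻¹ᵁ D x) P hP1 c := by
      have e : res (md X') le_rfl (pl ψ (D x) (qD x)) = c • res (md X') le_rfl (pl φ (D x) (pD x)) := by
        rw [res_self, res_self, hc]
      have e1 := pl_rel π₁ ψ φ (V := g ⁻¹ᵁ D x) (P := P) le_rfl le_rfl le_rfl (qD x) (pD x) c e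
      have e2 := pl_rel π₂ ψ φ (V := g ⁻¹ᵁ D x) (P := P) le_rfl le_rfl hP1 (qD x) (pD x) c e
      erw [← pl_congr ha le_rfl _ (qD x), ← pl_congr hφ le_rfl _ (pD x), e1] at e2
      refine (isGen_pl (π₁ ≫ φ) (hpD x) P le_rfl).1 ?_
      exact e2
    have hdesc : ∀ {T : Scheme.{u}} (y y' : T ⟶ X'.base) (V : T.Opens) (hy : V ≤ y ⁻¹ᵁ (g ⁻¹ᵁ D x))
        (hy' : V ≤ y' ⁻¹ᵁ (g ⁻¹ᵁ D x)), y ≫ g = y' ≫ g → ev y _ V hy c = ev y' _ V hy' c := by
      intro T y y' V hy hy' e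
      have hz : V ≤ hP.lift y y' e ⁻¹ᵁ P := by
        rw [← Scheme.Hom.comp_preimage, hP.lift_fst]
        exact hy
      have h := congrArg (ev (hP.lift y y' e) P V hz) hinv
      rw [LBDesc.ev_comp, LBDesc.ev_comp] at h
      exact (LBDesc.ev_congr (hP.lift_fst y y' e).symm _ _ _).trans
        (h.trans (LBDesc.ev_congr (hP.lift_snd y y' e) _ _ _))
    have hu : IsUnit c := W7Hull.isUnit_coeff (isGen_pl φ (hpD x)) (by
      rw [hc]
      exact isGen_pl ψ (hqD x))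
    obtain ⟨c₀, hc₀, hun⟩ := LBDesc.existsUnique_desc_open g (D x) c hdesc
    obtain ⟨d₀, hd₀, -⟩ := LBDesc.existsUnique_desc_open g (D x) hu.unit⁻¹.val fun y y' V hy hy' e => by
      refine (hu.map (ev y _ V hy)).mul_left_cancel ?_
      rw [← map_mul, IsUnit.mul_val_inv, map_one, hdesc y y' V hy hy' e, ← map_mul, IsUnit.mul_val_inv, map_one]
    obtain ⟨o, -, ho⟩ := LBDesc.existsUnique_desc_open g (D x) 1 fun y y' V hy hy' e => by rw [map_one, map_one]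
    have hu₀ : IsUnit c₀ := IsUnit.of_mul_eq_one d₀
      ((ho (c₀ * d₀) (by simp only [map_mul, hc₀, hd₀, IsUnit.mul_val_inv])).trans (ho 1 (map_one _)).symm)
    refine ⟨c₀ • pD x, W7Hull.isGen_smul (hpD x) hu₀, ?_⟩
    rw [pl_smul, ← hc, ← hc₀]
    congr 1
    simp [ProjMor.ev, Scheme.Hom.app_eq_appLE, g]
  choose t ht hpt using him
  obtain ⟨κ, hκ⟩ := exists_hom_gens (M := Q) (N := md X) (U := D) (e := qD) (q := t) hcov hqD
    fun i j W hi hj d hd => by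
      refine pl_injective φ hX W ?_
      rw [pl_smul, ← pl_res φ hi, ← pl_res φ hj, hpt, hpt, pl_res ψ hi, pl_res ψ hj, hd, pl_smul]
  refine ⟨κ, isIso_of_gens D qD hcov hqD κ fun i => by rw [hκ]; exact ht i, fun V s =>
    section_eq_of_locally fun z hz => ?_⟩
  obtain ⟨i, hi⟩ := hcov (g.base z)
  refine ⟨g ⁻¹ᵁ (V ⊓ D i), g.preimage_mono inf_le_left, ⟨hz, hi⟩, ?_⟩
  obtain ⟨d, hd⟩ := (hqD i (V ⊓ D i) inf_le_right).2 (res Q inf_le_left s)
  simp only at hd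
  rw [pl_res φ inf_le_left, app_res, ← hd, Scheme.Modules.Hom.app_smul, ← app_res, hκ, pl_smul,
    ← pl_res φ inf_le_right, hpt, pl_res ψ inf_le_left, ← hd, pl_smul, pl_res ψ inf_le_right]

include hP hφ hX in
/-- **descent of cartesian morphisms** -/
theorem exists_descHom {W : Obj.{u}} (hW : PicF.IsInvertible (md W)) (h : X' ⟶ W) [IsIso (fib h)]
    (b : X.base ⟶ W.base) (hb : φ.base ≫ b = h.base) (hh : π₁ ≫ h = π₂ ≫ h) :
    ∃ k : X ⟶ W, k.base = b ∧ IsIso (fib k) ∧ φ ≫ k = h := by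
  let Q := (Scheme.Modules.pullback b).obj (md W)
  let k₀ : (⟨X.base, Q⟩ : Obj.{u}) ⟶ W := mk' (X := ⟨X.base, Q⟩) b (𝟙 Q)
  haveI : IsIso (fib k₀) := inferInstanceAs (IsIso (𝟙 Q))
  obtain ⟨⟨b', a⟩, hb', hl⟩ := exists_lift k₀ h φ.base hb
  obtain rfl : b' = φ.base := hb'
  let ψ : X' ⟶ (⟨X.base, Q⟩ : Obj.{u}) := mk' φ.base a
  haveI : IsIso (fib (ψ ≫ k₀)) := isIso_fib_congr hl.symm
  haveI hψ : IsIso (fib ψ) := isIso_fib_of_comp ψ k₀
  haveI : IsIso (a : md X' ⟶ _) := hψ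
  have ha : π₁ ≫ ψ = π₂ ≫ ψ := cancel_cart k₀ hP.w (by rw [Category.assoc, Category.assoc, hl, hh])
  obtain ⟨κ, hκi, hκ⟩ := exists_iso_desc φ π₁ π₂ hP hφ hX Q (PicLoc.isInvertible_pullback b hW) a ha
  let k : X ⟶ W := mk' b (inv κ)
  haveI hk : IsIso (fib k) := inferInstanceAs (IsIso (inv κ))
  haveI : IsIso (fib (φ ≫ k)) := isIso_fib_comp _ _
  refine ⟨k, rfl, hk, cart_ext hb (fun U s => ?_) hW⟩
  rw [pl_comp, pl_mk' b κ, hκ, ← res_self _ le_rfl (pl ψ _ _)]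
  refine Eq.trans ?_ (pl_congr hl le_rfl (le_of_eq (by rw [← hb]; rfl)) s)
  rw [pl_comp ψ k₀]
  congr 2
  haveI : IsIso (fib (mk' (X := ⟨X.base, Q⟩) b (inv (𝟙 Q)))) := inferInstanceAs (IsIso (inv (𝟙 Q)))
  exact (fib_app_injective k₀ _ (fib_pl k₀ U s)).symm

end Groth.Agent.ThetaLib
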