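import Groth.Agent.ThetaLib.Represent
import Groth.Agent.ThetaLib.Local
import Groth.Agent.S7817
import Groth.Agent.Assoc.Kernel
import Groth.Agent.ResDesc.ResProp
import Groth.Agent.ParaFLib.Ext

/-!
The theta group scheme is of finite type.
-/

set_option autoImplicit false
set_option backward.isDefEq.respectTransparency false
set_option backward.isDefEq.respectTransparency.types false
set_option linter.style.haveILetI false
set_option maxHeartbeats 1000000

universe u

open CategoryTheory CategoryTheory.Limits MonoidalCategory CartesianMonoidalCategory MonObj AlgebraicGeometry Opposite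
open Groth.Agent.W7Cube
open ThetaGrp (transl thetaObj thetaPts IsOverPt bcLift IsBaseChange transl_fst transl_snd transl_mul transl_one)

attribute [local instance] Groth.Agent.W7Cube.law

noncomputable section

namespace Groth.Agent.ThetaLib

theorem gmS_from_props {Y : Scheme.{u}} (t : IsTerminal Y) :
    IsAffineHom (t.from gmS.{u}) ∧ LocallyOfFiniteType (t.from gmS.{u}) := by
  have e : t.from gmS.{u} =
      Spec.map (CommRingCat.ofHom (algebraMap (ULift.{u} ℤ) LineGrp.Lau.{u})) ≫ t.from _ := t.hom_ext _ _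
  haveI : IsIso (t.from (Spec (CommRingCat.of (ULift.{u} ℤ)))) := isIso_of_isTerminal specULiftZIsTerminal t _
  haveI : Monoid.FG (Multiplicative ℤ) := inferInstance
  haveI : LocallyOfFiniteType (Spec.map (CommRingCat.ofHom (algebraMap (ULift.{u} ℤ) LineGrp.Lau.{u}))) :=
    (HasRingHomProperty.Spec_iff (P := @LocallyOfFiniteType)).2
      (RingHom.finiteType_algebraMap.2 inferInstance)
  rw [e]
  exact ⟨inferInstance, inferInstance⟩

theorem chart_props {W : Obj.{u}} (O : W.base.Opens) :
    IsAffineHom (prod.fst : chartS O ⟶ O.toScheme) ∧ LocallyOfFiniteType (prod.fst : chartS O ⟶ O.toScheme) := by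
  have sq : IsPullback (prod.snd : chartS O ⟶ gmS) (prod.fst : chartS O ⟶ O.toScheme)
      (terminalIsTerminal.from gmS) (terminalIsTerminal.from O.toScheme) :=
    (IsPullback.of_is_product' (prodIsProd _ _) terminalIsTerminal).flip
  obtain ⟨h1, h2⟩ := gmS_from_props.{u} (terminalIsTerminal (C := Scheme.{u}))
  exact ⟨MorphismProperty.of_isPullback (P := @IsAffineHom) sq h1,
    MorphismProperty.of_isPullback (P := @LocallyOfFiniteType) sq h2⟩

/-- The scheme of frames is affine and of finite type over the base. -/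
theorem frameBase_props {W : Obj.{u}} (hW : PicF.IsInvertible (md W)) {P : Scheme.{u}} (cP : Frame W P)
    (hP : ∀ (T : Scheme.{u}) (d : Frame W T), ∃! g : T ⟶ P, cP.pull g = d) :
    IsAffineHom cP.1.base ∧ LocallyOfFiniteType cP.1.base := by
  obtain ⟨O, p, hO, hp⟩ := exists_gens hW
  have key : ∀ x, ∃ (l : (cP.1.base ⁻¹ᵁ O x).toScheme ⟶ chartS (O x)), IsIso l ∧
      cP.1.base ∣_ O x = l ≫ prod.fst := fun x => by
    obtain ⟨u₀, hb, hu⟩ := exists_univ (O x) (hp x)
    let U := cP.1.base ⁻¹ᵁ O x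
    obtain ⟨l, hl, -⟩ := existsUnique_classify (hp x) hb hu (cP.pull U.ι) (fun t _ => t.2)
    obtain ⟨g, hg, -⟩ := hP _ u₀
    have hgb : g ≫ cP.1.base = u₀.1.base := congrArg (fun d : Frame W (chartS (O x)) => d.1.base) hg
    have hlb : l ≫ u₀.1.base = U.ι ≫ cP.1.base := congrArg (fun d : Frame W U.toScheme => d.1.base) hl
    let g' : chartS (O x) ⟶ U.toScheme := IsOpenImmersion.lift U.ι g (by
      rw [Scheme.Opens.range_ι]
      rintro _ ⟨t, rfl⟩
      show (g ≫ cP.1.base) t ∈ O x
      rw [hgb, hb]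
      exact ((prod.fst : chartS (O x) ⟶ (O x).toScheme) t).2)
    have hg' : g' ≫ U.ι = g := IsOpenImmersion.lift_fac _ _ _
    refine ⟨l, ⟨g', ?_, ?_⟩, ?_⟩
    · rw [← cancel_mono U.ι, Category.assoc, hg', Category.id_comp]
      refine (hP _ (cP.pull U.ι)).unique ?_ rfl
      rw [pull_comp hW, hg, hl]
    · refine (existsUnique_classify (hp x) hb hu u₀ (fun t _ => by
        rw [hb]; exact ((prod.fst : chartS (O x) ⟶ (O x).toScheme) t).2)).unique ?_ (pull_id hW u₀)
      rw [pull_comp hW, hl, ← pull_comp hW, hg', hg]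
    · rw [← cancel_mono (O x).ι, morphismRestrict_ι, Category.assoc, ← hb, hlb]
  have hsup : iSup O = ⊤ := eq_top_iff.2 fun x _ => TopologicalSpace.Opens.mem_iSup.2 ⟨x, hO x⟩
  refine ⟨IsZariskiLocalAtTarget.of_iSup_eq_top (P := @IsAffineHom) O hsup fun x => ?_,
    IsZariskiLocalAtTarget.of_iSup_eq_top (P := @LocallyOfFiniteType) O hsup fun x => ?_⟩ <;>
  · obtain ⟨l, hl, e⟩ := key x
    obtain ⟨h1, h2⟩ := chart_props (O x)
    rw [e]
    haveI := hl; haveI := h1; haveI := h2
    infer_instance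

variable {k : Type u} [Field k] {A : Over (Spec (CommRingCat.of k))} [GrpObj A] [IsProper A.hom]
  [GeometricallyIntegral A.hom] {L : A.left.Modules}

/-- the locus with trivial Mumford bundle, with its finiteness -/
theorem exists_locus_finite (hL : PicF.IsInvertible L) :
    ∃ (Z : Over (Spec (CommRingCat.of k))) (z : Z ⟶ A), Mono z.left ∧ QuasiCompact z.left ∧
      LocallyOfFiniteType z.left ∧
      ∀ (T : Over (Spec (CommRingCat.of k))) (x : T ⟶ A), ThetaGrp.IsMumfordTriv A L x ↔ ∃ y : T ⟶ Z, y ≫ z = x := by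
  obtain ⟨Λ, hΛ, hcl⟩ := PicGrp.exists_eq_cls (AVAmple.mum (PicGrp.cls L hL) (𝟙 A))
  have hsq : IsPullback (snd A A).left (fst A A).left A.hom A.hom := by
    refine ⟨⟨by rw [Over.w, Over.w]⟩, ⟨PullbackCone.IsLimit.mk _
      (fun s => (lift (Over.homMk s.snd rfl : Over.mk (s.snd ≫ A.hom) ⟶ A)
        (Over.homMk s.fst s.condition : Over.mk (s.snd ≫ A.hom) ⟶ A)).left)
      (fun s => ?_) (fun s => ?_) (fun s m h₁ h₂ => ?_)⟩⟩
    · rw [← Over.comp_left, lift_snd]; rfl
    · rw [← Over.comp_left, lift_fst]; rfl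
    · let m' : Over.mk (s.snd ≫ A.hom) ⟶ A ⊗ A := Over.homMk m (by
        rw [← Over.w (fst A A), ← Category.assoc, h₂]; rfl)
      have : m' = lift (Over.homMk s.snd rfl) (Over.homMk s.fst s.condition) := by
        apply CartesianMonoidalCategory.hom_ext
        · rw [lift_fst]; exact Over.OverMorphism.ext h₂
        · rw [lift_snd]; exact Over.OverMorphism.ext h₁
      exact congrArg CommaMorphism.left this
  let f := (snd A A).left
  haveI : IsProper f := MorphismProperty.of_isPullback (P := @IsProper) hsq.flip ‹_›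
  haveI : GeometricallyIntegral f := MorphismProperty.of_isPullback (P := @GeometricallyIntegral) hsq.flip ‹_›
  haveI : Flat A.hom := inferInstance
  haveI : Flat f := MorphismProperty.of_isPullback (P := @Flat) hsq.flip ‹_›
  haveI : LocallyOfFinitePresentation A.hom := inferInstance
  haveI : LocallyOfFinitePresentation f := MorphismProperty.of_isPullback (P := @LocallyOfFinitePresentation) hsq.flip ‹_›
  haveI : GeometricallyConnected f := W7See.geometricallyConnected_of_geometricallyIntegral f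
  obtain ⟨Z, j, hj, hjp, hjq, huniv, -⟩ := S7817.result f Λ (ResDesc.isFinLocFree_of_isInvertible hΛ)
  haveI := hjp
  refine ⟨Over.mk (j ≫ A.hom), Over.homMk j rfl, inferInstanceAs (Mono j), hjq, inferInstanceAs (LocallyOfFiniteType j),
    fun T x => ?_⟩
  have hp : IsPullback (A ◁ x).left (snd A T).left f x.left := (Assoc.isPullback_whiskerLeft x).flip
  have hm : pull (A ◁ x).left (PicGrp.cls Λ hΛ) = AVAmple.mum (PicGrp.cls L hL) x := by
    rw [show PicGrp.cls Λ hΛ = AVAmple.mum (PicGrp.cls L hL) (𝟙 A) from hcl.symm, pull_mum, Category.comp_id]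
  refine Iff.trans ?_ (Iff.trans (huniv T.left x.left).symm ⟨fun ⟨y, hy⟩ => ⟨Over.homMk y (by
    change y ≫ j ≫ A.hom = T.hom
    rw [← Category.assoc, hy, Over.w]), Over.OverMorphism.ext hy⟩, fun ⟨y, hy⟩ => ⟨y.left, congrArg CommaMorphism.left hy⟩⟩)
  rw [AVAmple.isMumfordTriv_iff L hL x, ← hm, pull_cls]
  constructor
  · rintro ⟨d, hd⟩
    obtain ⟨M, hM, rfl⟩ := PicGrp.exists_eq_cls d
    rw [pull_cls, PicGrp.cls_eq_cls_iff] at hd
    obtain ⟨i⟩ := hd
    refine ⟨M, ResDesc.isFinLocFree_of_isInvertible hM, ⟨?_⟩⟩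
    exact (Scheme.Modules.pullbackCongr hp.isoPullback_inv_fst).symm.app Λ ≪≫
      ((Scheme.Modules.pullbackComp hp.isoPullback.inv (A ◁ x).left).app Λ).symm ≪≫
      (Scheme.Modules.pullback hp.isoPullback.inv).mapIso i ≪≫
      (Scheme.Modules.pullbackComp hp.isoPullback.inv (snd A T).left).app M ≪≫
      (Scheme.Modules.pullbackCongr hp.isoPullback_inv_snd).app M
  · rintro ⟨M, -, ⟨i⟩⟩
    let i' : (Scheme.Modules.pullback (A ◁ x).left).obj Λ ≅ (Scheme.Modules.pullback (snd A T).left).obj M :=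
      (Scheme.Modules.pullbackCongr hp.isoPullback_hom_fst).symm.app Λ ≪≫
        ((Scheme.Modules.pullbackComp hp.isoPullback.hom _).app Λ).symm ≪≫
        (Scheme.Modules.pullback hp.isoPullback.hom).mapIso i ≪≫
        (Scheme.Modules.pullbackComp hp.isoPullback.hom _).app M ≪≫
        (Scheme.Modules.pullbackCongr hp.isoPullback_hom_snd).app M
    let σ := (lift (toUnit T ≫ η[A]) (𝟙 T)).left
    have hσ : σ ≫ (snd A T).left = 𝟙 _ := by
      rw [← Over.comp_left, lift_snd]; rfl
    have hM : PicF.IsInvertible M := ParaFLib.isInvertible_of_iso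
      ((Scheme.Modules.pullback σ).mapIso i' ≪≫ (Scheme.Modules.pullbackComp σ _).app M ≪≫
        (Scheme.Modules.pullbackCongr hσ).app M ≪≫ (Scheme.Modules.pullbackId _).app M)
      (PicLoc.isInvertible_pullback σ (PicLoc.isInvertible_pullback _ hΛ))
    refine ⟨PicGrp.cls M hM, ?_⟩
    rw [pull_cls, PicGrp.cls_eq_cls_iff]
    exact ⟨i'⟩

variable (hL : PicF.IsInvertible L)

include hL in
theorem exists_univPt_finite : ∃ (G : Over (Spec (CommRingCat.of k))) (u : thetaPts A L G),
    (QuasiCompact G.hom ∧ LocallyOfFiniteType G.hom) ∧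
    ∀ (T : Over (Spec (CommRingCat.of k))) (β : thetaPts A L T), ∃! g : T ⟶ G, IsBaseChange β g u := by
  obtain ⟨P, cP, hP⟩ := exists_frameScheme (W := modObj A L) hL
  obtain ⟨Z, z, hz, hzq, hzf, hZ⟩ := exists_locus_finite hL
  obtain ⟨hPa, hPf⟩ := frameBase_props (W := modObj A L) hL cP hP
  let G : Over (Spec (CommRingCat.of k)) := Over.mk ((pullback.snd cP.1.base z.left) ≫ Z.hom)
  let q : G ⟶ Z := Over.homMk (pullback.snd cP.1.base z.left) rfl
  let cG : Frame (modObj A L) G.left := cP.pull (pullback.fst cP.1.base z.left)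
  obtain ⟨u, hu⟩ := exists_of_frame hL ((hZ G (q ≫ z)).2 ⟨q, rfl⟩) cG pullback.condition
  have hux : IsOverPt u (q ≫ z) := by
    obtain ⟨x, hx⟩ := exists_pt u
    obtain rfl : x = q ≫ z := Over.OverMorphism.ext (by rw [← frameOf_base hL hx, hu]; exact pullback.condition)
    exact hx
  haveI := hzq; haveI := hzf; haveI := hPa; haveI := hPf
  haveI : QuasiCompact Z.hom := by rw [← Over.w z]; infer_instance
  haveI : LocallyOfFiniteType Z.hom := by rw [← Over.w z]; infer_instance
  refine ⟨G, u, ⟨inferInstanceAs (QuasiCompact (pullback.snd cP.1.base z.left ≫ Z.hom)),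
    inferInstanceAs (LocallyOfFiniteType (pullback.snd cP.1.base z.left ≫ Z.hom))⟩, fun T β => ?_⟩
  obtain ⟨x, hx⟩ := exists_pt β
  obtain ⟨y, hy⟩ := (hZ T x).1 (isMumfordTriv_of_lift hL hx)
  obtain ⟨g₁, hg₁, hg₁u⟩ := hP T.left (frameOf hL β)
  have hcond : g₁ ≫ cP.1.base = y.left ≫ z.left := by
    rw [← Over.comp_left, hy, ← frameOf_base hL hx, ← hg₁]
    rfl
  let g : T ⟶ G := Over.homMk (pullback.lift g₁ y.left hcond) (by
    change pullback.lift g₁ y.left hcond ≫ pullback.snd _ _ ≫ Z.hom = _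
    rw [pullback.lift_snd_assoc, Over.w])
  refine ⟨g, ?_, fun g' hg' => ?_⟩
  · obtain ⟨β', hβ', -⟩ := exists_bc g hux
    suffices β' = β from this ▸ hβ'
    refine frameOf_injective hL ?_
    rw [frameOf_bc hL hβ', hu, ← hg₁]
    change (cP.pull _).pull _ = _
    rw [← pull_comp (W := modObj A L) hL]
    congr 1
    exact pullback.lift_fst _ _ _
  · refine Over.OverMorphism.ext (pullback.hom_ext ?_ ?_)
    · rw [show g.left ≫ pullback.fst _ _ = g₁ from pullback.lift_fst _ _ _]
      refine hg₁u _ ?_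
      dsimp only
      rw [pull_comp (W := modObj A L) hL, frameOf_bc hL hg', hu]
    · rw [show g.left ≫ pullback.snd _ _ = y.left from pullback.lift_snd _ _ _, ← cancel_mono z.left]
      have e : g'.left ≫ pullback.snd cP.1.base z.left ≫ z.left = x.left :=
        congrArg CommaMorphism.left (pt_unique (isOverPt_of_bc hux hg') hx)
      rw [← Over.comp_left, hy, Category.assoc]
      exact e

include hL in
/-- Any representing scheme of the theta group is of finite type. -/
theorem finiteType_of_univ {G : Over (Spec (CommRingCat.of k))} (u : thetaPts A L G)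
    (hu : ∀ (T : Over (Spec (CommRingCat.of k))) (β : thetaPts A L T), ∃! g : T ⟶ G, IsBaseChange β g u) :
    QuasiCompact G.hom ∧ LocallyOfFiniteType G.hom := by
  obtain ⟨G₀, u₀, ⟨h1, h2⟩, hu₀⟩ := exists_univPt_finite hL
  obtain ⟨a, ha, -⟩ := hu₀ G u
  obtain ⟨b, hb, -⟩ := hu G₀ u₀
  have hbc1 : ∀ (T : Over (Spec (CommRingCat.of k))) (β : thetaPts A L T), IsBaseChange β (𝟙 T) β := fun T β => by
    obtain ⟨x, hx⟩ := exists_pt β
    obtain ⟨g, hg, -⟩ := hu T β
    obtain ⟨β', hβ', -⟩ := exists_bc (𝟙 T) hx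
    have e := bc_trans hβ' hg
    rw [Category.id_comp] at e
    rwa [bc_unique e hg] at hβ'
  have e : IsIso a := ⟨b, (hu G u).unique (bc_trans ha hb) (hbc1 G u),
    (hu₀ G₀ u₀).unique (bc_trans hb ha) (hbc1 G₀ u₀)⟩
  haveI : IsIso a.left := inferInstanceAs (IsIso ((Over.forget _).map a))
  haveI := h1; haveI := h2
  rw [← Over.w a]
  exact ⟨inferInstance, inferInstance⟩

end Groth.Agent.ThetaLib
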