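import Groth.Prelude.Def_ThetaGrp
import Groth.Agent.ThetaLib.Scalar

/-!
Cartesian morphisms and the action of functions on morphisms in the Grothendieck construction of modules.
-/

set_option autoImplicit false
set_option backward.isDefEq.respectTransparency false
set_option backward.isDefEq.respectTransparency.types false
set_option linter.style.haveILetI false

universe u

open CategoryTheory CategoryTheory.Limits AlgebraicGeometry
open Groth.Agent.LBDesc (smulMor)

noncomputable section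

namespace Groth.Agent.ThetaLib

/-- Schemes with a module. -/
abbrev Obj := Pseudofunctor.CoGrothendieck ThetaGrp.modPF.{u}

variable {W X Y Z : Obj.{u}}

/-- The module of an object. -/
abbrev md (X : Obj.{u}) : X.base.Modules := X.fiber

/-- The module part of a morphism. -/
abbrev fib (f : X ⟶ Y) : md X ⟶ (Scheme.Modules.pullback f.base).obj (md Y) := f.fiber

/-- A morphism from its two parts. -/
abbrev mk' (b : X.base ⟶ Y.base) (h : md X ⟶ (Scheme.Modules.pullback b).obj (md Y)) : X ⟶ Y := ⟨b, h⟩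

theorem fib_comp (f : X ⟶ Y) (g : Y ⟶ Z) :
    fib (f ≫ g) = fib f ≫ (Scheme.Modules.pullback f.base).map (fib g) ≫
      (Scheme.Modules.pullbackComp f.base g.base).hom.app (md Z) := rfl

theorem fib_id (X : Obj.{u}) : fib (𝟙 X) = (Scheme.Modules.pullbackId X.base).inv.app (md X) := rfl

instance isIso_fib_id (X : Obj.{u}) : IsIso (fib (𝟙 X)) :=
  inferInstanceAs (IsIso ((Scheme.Modules.pullbackId X.base).inv.app (md X)))

theorem isIso_fib_comp (f : X ⟶ Y) (g : Y ⟶ Z) [IsIso (fib f)] [IsIso (fib g)] : IsIso (fib (f ≫ g)) := by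
  rw [fib_comp]
  infer_instance

theorem isIso_fib_congr {f g : X ⟶ Y} (h : f = g) [IsIso (fib f)] : IsIso (fib g) := by
  subst h
  infer_instance

/-- Lifting through a cartesian morphism. -/
theorem exists_lift (φ : X ⟶ Y) [IsIso (fib φ)] (h : W ⟶ Y) (g : W.base ⟶ X.base) (e : g ≫ φ.base = h.base) :
    ∃ k : W ⟶ X, k.base = g ∧ k ≫ φ = h := by
  obtain ⟨hb, hf⟩ := h
  obtain rfl : g ≫ φ.base = hb := e
  refine ⟨mk' g ((hf : md W ⟶ _) ≫ (Scheme.Modules.pullbackComp g φ.base).inv.app (md Y) ≫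
    (Scheme.Modules.pullback g).map (inv (fib φ))), rfl, ?_⟩
  change mk' (g ≫ φ.base) _ = mk' (g ≫ φ.base) hf
  congr 1
  change ((hf : md W ⟶ _) ≫ (Scheme.Modules.pullbackComp g φ.base).inv.app (md Y) ≫
    (Scheme.Modules.pullback g).map (inv (fib φ))) ≫ (Scheme.Modules.pullback g).map (fib φ) ≫
      (Scheme.Modules.pullbackComp g φ.base).hom.app (md Y) = hf
  rw [Category.assoc, Category.assoc, ← Functor.map_comp_assoc, IsIso.inv_hom_id, CategoryTheory.Functor.map_id,
    Category.id_comp, Iso.inv_hom_id_app]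
  exact Category.comp_id _

/-- A cartesian morphism may be cancelled. -/
theorem cancel_cart (φ : X ⟶ Y) [IsIso (fib φ)] {k k' : W ⟶ X} (hb : k.base = k'.base) (h : k ≫ φ = k' ≫ φ) :
    k = k' := by
  obtain ⟨b, f⟩ := k
  obtain ⟨b', f'⟩ := k'
  obtain rfl : b = b' := hb
  have := Pseudofunctor.CoGrothendieck.Hom.congr h
  simp only [eqToHom_refl] at this
  replace this : fib (mk' b (f : md W ⟶ _) ≫ φ) = fib (mk' b (f' : md W ⟶ _) ≫ φ) := this.trans (Category.comp_id _)
  rw [fib_comp, fib_comp] at this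
  change mk' b (f : md W ⟶ _) = mk' b (f' : md W ⟶ _)
  congr 1
  exact (cancel_mono ((Scheme.Modules.pullback b).map (fib φ) ≫
    (Scheme.Modules.pullbackComp b φ.base).hom.app (md Y))).1 this

/-- The action of a function on a morphism. -/
def act (a : Γ(X.base, ⊤)) (f : X ⟶ Y) : X ⟶ Y := mk' f.base (smulMor (md X) a ≫ fib f)

theorem act_base (a : Γ(X.base, ⊤)) (f : X ⟶ Y) : (act a f).base = f.base := rfl

theorem act_one (f : X ⟶ Y) : act 1 f = f := by
  change mk' f.base _ = mk' f.base (fib f)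
  rw [smulMor_one, Category.id_comp]

theorem act_mul (a b : Γ(X.base, ⊤)) (f : X ⟶ Y) : act (a * b) f = act a (act b f) := by
  change mk' f.base (smulMor (md X) (a * b) ≫ fib f) = mk' f.base (smulMor (md X) a ≫ smulMor (md X) b ≫ fib f)
  rw [smulMor_mul, Category.assoc]

theorem act_comp (a : Γ(X.base, ⊤)) (f : X ⟶ Y) (g : Y ⟶ Z) : act a f ≫ g = act a (f ≫ g) := by
  change mk' (f.base ≫ g.base) _ = mk' (f.base ≫ g.base) _
  congr 1

theorem comp_act (f : X ⟶ Y) (b : Γ(Y.base, ⊤)) (g : Y ⟶ Z) :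
    f ≫ act b g = act (f.base.appTop b) (f ≫ g) := by
  change mk' (f.base ≫ g.base) (fib f ≫ (Scheme.Modules.pullback f.base).map (smulMor (md Y) b ≫ fib g) ≫
    (Scheme.Modules.pullbackComp f.base g.base).hom.app (md Z)) = mk' (f.base ≫ g.base) (smulMor (md X) (f.base.appTop b) ≫ fib (f ≫ g))
  rw [fib_comp, Functor.map_comp, pullback_map_smulMor, reassoc_of% (smulMor_natural (fib f) (f.base.appTop b)),
    Category.assoc]

theorem act_injective (hX : PicF.IsInvertible (md X)) (f : X ⟶ Y) [IsIso (fib f)] {a b : Γ(X.base, ⊤)}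
    (h : act a f = act b f) : a = b := by
  have := Pseudofunctor.CoGrothendieck.Hom.congr h
  simp only [eqToHom_refl] at this
  exact smulMor_injective hX ((cancel_mono (fib f)).1 (this.trans (Category.comp_id _)))

theorem exists_eq_act (hX : PicF.IsInvertible (md X)) (f g : X ⟶ Y) [IsIso (fib g)] (h : f.base = g.base) :
    ∃ a : Γ(X.base, ⊤), f = act a g := by
  obtain ⟨b, φ⟩ := f
  obtain rfl : b = g.base := h
  obtain ⟨a, ha⟩ := exists_eq_smulMor hX ((φ : md X ⟶ _) ≫ inv (fib g))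
  refine ⟨a, ?_⟩
  change mk' g.base (φ : md X ⟶ _) = mk' g.base (smulMor (md X) a ≫ fib g)
  rw [← ha, Category.assoc, IsIso.inv_hom_id, Category.comp_id]

/-- A morphism with invertible parts is invertible. -/
theorem isIso_of_parts (f : X ⟶ Y) [IsIso f.base] [IsIso (fib f)] : IsIso f := by
  obtain ⟨k, hk, hkf⟩ := exists_lift f (𝟙 Y) (inv f.base) (IsIso.inv_hom_id f.base)
  refine ⟨k, cancel_cart f ?_ ?_, hkf⟩
  · change f.base ≫ k.base = 𝟙 _
    rw [hk, IsIso.hom_inv_id]
  · rw [Category.assoc, hkf, Category.comp_id, Category.id_comp]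

theorem isIso_fib_of_iso (e : X ≅ Y) : IsIso (fib e.hom) := by
  haveI h1 : IsIso (fib (e.hom ≫ e.inv)) := isIso_fib_congr e.hom_inv_id.symm
  haveI h2 : IsIso (fib (e.inv ≫ e.hom)) := isIso_fib_congr e.inv_hom_id.symm
  rw [fib_comp] at h1 h2
  set P := (Scheme.Modules.pullback e.inv.base).map (fib e.hom) ≫
    (Scheme.Modules.pullbackComp e.inv.base e.hom.base).hom.app (md Y)
  set Q := (Scheme.Modules.pullback e.hom.base).map (fib e.inv) ≫
    (Scheme.Modules.pullbackComp e.hom.base e.inv.base).hom.app (md X) with hQ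
  haveI : IsSplitMono (fib e.inv) := ⟨⟨⟨P ≫ inv (fib e.inv ≫ P), by rw [← Category.assoc, IsIso.hom_inv_id]⟩⟩⟩
  haveI : IsSplitEpi Q := ⟨⟨⟨inv (fib e.hom ≫ Q) ≫ fib e.hom, by rw [Category.assoc, IsIso.inv_hom_id]⟩⟩⟩
  haveI : Mono Q := by rw [hQ]; infer_instance
  haveI : IsIso Q := isIso_of_mono_of_isSplitEpi Q
  exact IsIso.of_isIso_comp_right (fib e.hom) Q

end Groth.Agent.ThetaLib
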