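import Groth.Agent.ThetaLib.Frame
import Groth.Agent.LineGrp.Gm
import Groth.Agent.AffHull.LinAct

/-!
Frames with base inside an open where a generator is given.
-/

set_option autoImplicit false
set_option backward.isDefEq.respectTransparency false
set_option backward.isDefEq.respectTransparency.types false
set_option linter.style.haveILetI false
set_option maxHeartbeats 1000000

universe u

open CategoryTheory CategoryTheory.Limits AlgebraicGeometry TopologicalSpace Opposite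
open Groth.Agent.QC (res resO res_res resO_resO res_self resO_self)
open ProjMor (ev ev_res ev_resO)
open TMul (IsGen)

noncomputable section

namespace Groth.Agent.ThetaLib

variable {W : Obj.{u}} {T T' : Scheme.{u}} {O : W.base.Opens}

/-- the coordinate as a global function -/
def tco (c : Frame W T) (h : (⊤ : T.Opens) ≤ c.1.base ⁻¹ᵁ O) (p : Γ(md W, O)) : Γ(T, ⊤) :=
  resO T h (coord c O p)

theorem top_le_pull (g : T' ⟶ T) (c : Frame W T) (h : (⊤ : T.Opens) ≤ c.1.base ⁻¹ᵁ O) :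
    (⊤ : T'.Opens) ≤ (c.pull g).1.base ⁻¹ᵁ O := fun _ _ => h trivial

theorem tco_pull (g : T' ⟶ T) (c : Frame W T) (h : (⊤ : T.Opens) ≤ c.1.base ⁻¹ᵁ O) (p : Γ(md W, O)) :
    tco (c.pull g) (top_le_pull g c h) p = g.appTop (tco c h p) := by
  unfold tco
  rw [coord_pull]
  change (g.app (c.1.base ⁻¹ᵁ O) ≫ T'.presheaf.map
      (homOfLE (fun _ _ => h trivial : (⊤ : T'.Opens) ≤ g ⁻¹ᵁ (c.1.base ⁻¹ᵁ O))).op) (coord c O p) =
    (T.presheaf.map (homOfLE h).op ≫ g.appTop) (coord c O p)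
  refine congrArg (fun φ : Γ(T, c.1.base ⁻¹ᵁ O) ⟶ Γ(T', ⊤) => φ (coord c O p)) ?_
  simp [Scheme.Hom.appTop, Scheme.Hom.app_eq_appLE, Scheme.Hom.appLE_map, Scheme.Hom.map_appLE]

theorem isUnit_tco (c : Frame W T) (h : (⊤ : T.Opens) ≤ c.1.base ⁻¹ᵁ O) {p : Γ(md W, O)} (hp : IsGen p) :
    IsUnit (tco c h p) := (isUnit_coord c hp).map _

theorem tco_ext {c c' : Frame W T} (hb : c.1.base = c'.1.base) (h : (⊤ : T.Opens) ≤ c.1.base ⁻¹ᵁ O)
    (h' : (⊤ : T.Opens) ≤ c'.1.base ⁻¹ᵁ O) {p : Γ(md W, O)} (hp : IsGen p) (e : tco c h p = tco c' h' p) : c = c' := by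
  refine frame_ext_gens (κ := Unit) hb (fun _ => O) (fun _ => p) (fun _ => hp) (fun t => ⟨(), h (x := t) trivial⟩)
    fun _ => ?_
  have e' := congrArg (resO T (le_top : c.1.base ⁻¹ᵁ O ≤ ⊤)) e
  rw [tco, tco, resO_resO, resO_resO, resO_self] at e'
  exact e'

theorem exists_frame_of_unit (b : T ⟶ W.base) (h : (⊤ : T.Opens) ≤ b ⁻¹ᵁ O) {p : Γ(md W, O)} (hp : IsGen p)
    {a : Γ(T, ⊤)} (ha : IsUnit a) :
    ∃ (c : Frame W T) (hb : c.1.base = b), tco c (hb ▸ h) p = a := by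
  obtain ⟨c, hb, hc⟩ := exists_frame (κ := Unit) b (fun _ => O) (fun _ => p) (fun _ => hp)
    (fun t => ⟨(), h (x := t) trivial⟩) (fun _ => resO T le_top a) (fun _ => ha.map _) fun i j V hi hj d hd => by
      have h1 : d = 1 := ((C1Cap.isGen_eta b hp) V hi).1 (a₁ := d) (a₂ := (1 : Γ(T, V))) (by
        simp only [one_smul]; exact hd.symm)
      rw [h1, _root_.one_mul]
  refine ⟨c, hb, ?_⟩
  rw [tco, hc (), resO_resO, resO_resO, resO_self]

/-- the punctured line -/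
abbrev gmS : Scheme.{u} := Spec (CommRingCat.of LineGrp.Lau.{u})

/-- the coordinate on the punctured line -/
def gmCoord (m : T ⟶ gmS) : Γ(T, ⊤)ˣ := Units.map (AffHull.fn m).toMonoidHom LineGrp.genU

theorem gmCoord_comp (g : T' ⟶ T) (m : T ⟶ gmS) :
    (gmCoord (g ≫ m) : Γ(T', ⊤)) = g.appTop (gmCoord m : Γ(T, ⊤)) := AffHull.fn_comp g m _

theorem gmCoord_injective {m m' : T ⟶ gmS} (h : gmCoord m = gmCoord m') : m = m' :=
  AffHull.fn_injective fun x => RingHom.congr_fun (LineGrp.lau_ext h) x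

theorem exists_gmCoord (a : Γ(T, ⊤)ˣ) : ∃ m : T ⟶ gmS, gmCoord m = a := by
  refine ⟨T.toSpecΓ ≫ Spec.map (CommRingCat.ofHom (LineGrp.mkU a)), Units.ext ?_⟩
  refine Eq.trans ?_ (congrArg Units.val (LineGrp.mkU_genU a))
  change AffHull.fn (T.toSpecΓ ≫ Spec.map (CommRingCat.ofHom (LineGrp.mkU a))) _ = LineGrp.mkU a _
  erw [AffHull.fn_map]
  simp [AffHull.fn, Scheme.toSpecΓ_appTop]

end Groth.Agent.ThetaLib
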