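import Groth.Agent.ThetaLib.FrameCoord
import Mathlib.AlgebraicGeometry.Sites.Representability

/-!
The functor of frames of an invertible module is representable.
-/

set_option autoImplicit false
set_option backward.isDefEq.respectTransparency false
set_option backward.isDefEq.respectTransparency.types false
set_option linter.style.haveILetI false
set_option maxHeartbeats 1000000

universe u

open CategoryTheory CategoryTheory.Limits AlgebraicGeometry TopologicalSpace Opposite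
open Groth.Agent.QC (app_res res resO res_res res_smul resO_resO res_self resO_self section_eq_of_locally)
open TMul (IsGen)

noncomputable section

namespace Groth.Agent.ThetaLib

variable {W : Obj.{u}} (hW : PicF.IsInvertible (md W))

/-- the functor of frames -/
def frameF : Scheme.{u}ᵒᵖ ⥤ Type u where
  obj T := Frame W T.unop
  map g := TypeCat.ofHom fun c => c.pull g.unop
  map_id T := by ext c; exact pull_id hW c
  map_comp g h := by ext c; exact pull_comp hW h.unop g.unop c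

variable {T : Scheme.{u}}

/-- the value on an open of a frame over that open -/
def valOn {O : W.base.Opens} {Z : T.Opens} (d : Frame W Z.toScheme) (h : (⊤ : Z.toScheme.Opens) ≤ d.1.base ⁻¹ᵁ O)
    (p : Γ(md W, O)) : Γ(T, Z) := Z.topIso.hom (tco d h p)

theorem valOn_congr {O : W.base.Opens} {Z : T.Opens} {d d' : Frame W Z.toScheme} (e : d = d') (h : (⊤ : Z.toScheme.Opens) ≤ d.1.base ⁻¹ᵁ O)
    (h' : (⊤ : Z.toScheme.Opens) ≤ d'.1.base ⁻¹ᵁ O) (p : Γ(md W, O)) : valOn d h p = valOn d' h' p := by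
  subst e
  rfl

theorem topIso_appTop {Z V : T.Opens} (hZ : Z ≤ V) (a : Γ(V.toScheme, ⊤)) :
    Z.topIso.hom ((T.homOfLE hZ).appTop a) = resO T hZ (V.topIso.hom a) := by
  change ((T.homOfLE hZ).appTop ≫ Z.topIso.hom) a = (V.topIso.hom ≫ T.presheaf.map (homOfLE hZ).op) a
  refine congrArg (fun φ : Γ(V.toScheme, ⊤) ⟶ Γ(T, Z) => φ a) ?_
  simp [Scheme.Opens.topIso_hom, Scheme.Hom.appTop, Scheme.homOfLE_app, ← Functor.map_comp]
  try rfl

theorem valOn_res {O : W.base.Opens} {Z V : T.Opens} (hZ : Z ≤ V) (d : Frame W V.toScheme)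
    (h : (⊤ : V.toScheme.Opens) ≤ d.1.base ⁻¹ᵁ O) (p : Γ(md W, O)) :
    resO T hZ (valOn d h p) = valOn (d.pull (T.homOfLE hZ)) (top_le_pull _ d h) p := by
  rw [valOn, valOn, tco_pull _ d h, topIso_appTop]

theorem valOn_pull {O : W.base.Opens} {Z : T.Opens} (c : Frame W T) (hZ : Z ≤ c.1.base ⁻¹ᵁ O)
    (h : (⊤ : Z.toScheme.Opens) ≤ (c.pull Z.ι).1.base ⁻¹ᵁ O) (p : Γ(md W, O)) :
    valOn (c.pull Z.ι) h p = resO T hZ (coord c O p) := by
  rw [valOn, tco, coord_pull]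
  change (Z.ι.app (c.1.base ⁻¹ᵁ O) ≫ Z.toScheme.presheaf.map
      (homOfLE (show (⊤ : Z.toScheme.Opens) ≤ Z.ι ⁻¹ᵁ (c.1.base ⁻¹ᵁ O) from h)).op ≫ Z.topIso.hom) (coord c O p) =
    (T.presheaf.map (homOfLE hZ).op) (coord c O p)
  refine congrArg (fun φ : Γ(T, c.1.base ⁻¹ᵁ O) ⟶ Γ(T, Z) => φ (coord c O p)) ?_
  simp [Scheme.Opens.topIso_hom, Scheme.Opens.ι_app, ← Functor.map_comp]
  try rfl

theorem valOn_res_gen {O O' : W.base.Opens} {Z : T.Opens} (d : Frame W Z.toScheme) (hO : O' ≤ O)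
    (h : (⊤ : Z.toScheme.Opens) ≤ d.1.base ⁻¹ᵁ O) (h' : (⊤ : Z.toScheme.Opens) ≤ d.1.base ⁻¹ᵁ O') (p : Γ(md W, O)) :
    valOn d h p = valOn d h' (res (md W) hO p) := by
  rw [valOn, valOn, tco, tco, ← coord_res, resO_resO]

theorem valOn_smul {O : W.base.Opens} {Z : T.Opens} (b : T ⟶ W.base) (hZ : Z ≤ b ⁻¹ᵁ O) (d : Frame W Z.toScheme)
    (hd : d.1.base = Z.ι ≫ b) (h : (⊤ : Z.toScheme.Opens) ≤ d.1.base ⁻¹ᵁ O) (r : Γ(W.base, O)) (p : Γ(md W, O)) :
    valOn d h (r • p) = ProjMor.ev b O Z hZ r * valOn d h p := by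
  rw [valOn, valOn, tco, tco, coord_smul, map_mul, map_mul]
  congr 1
  change (d.1.base.app O ≫ Z.toScheme.presheaf.map (homOfLE h).op ≫ Z.topIso.hom) r = b.appLE O Z hZ r
  refine congrArg (fun φ : Γ(W.base, O) ⟶ Γ(T, Z) => φ r) ?_
  generalize hq : d.1.base = q at hd h ⊢
  subst hd
  simp [Scheme.Hom.app_eq_appLE, Scheme.Opens.topIso_hom, Scheme.Hom.comp_appLE, Scheme.Opens.ι_app,
    Scheme.Hom.appLE_map_assoc, ← Functor.map_comp]
  try rfl

include hW in
theorem frame_ext_local {ι : Type*} (V : ι → T.Opens) (hV : ∀ t : T, ∃ i, t ∈ V i) {d d' : Frame W T}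
    (h : ∀ i, d.pull (V i).ι = d'.pull (V i).ι) : d = d' := by
  have hb : d.1.base = d'.1.base := by
    let 𝒰 : T.OpenCover := Scheme.Cover.mkOfCovers ι (fun i => (V i).toScheme) (fun i => (V i).ι)
      (fun t => (hV t).imp fun i hi => ⟨⟨t, hi⟩, rfl⟩)
    exact 𝒰.hom_ext _ _ fun i => congrArg (fun c : Frame W _ => c.1.base) (h i)
  obtain ⟨O, p, hO, hp⟩ := exists_gens hW
  refine frame_ext_gens hb O p hp (fun t => ⟨_, hO _⟩) fun x => ?_
  refine TopCat.Sheaf.eq_of_locally_eq' T.sheaf (fun i => V i ⊓ d.1.base ⁻¹ᵁ O x) _ (fun _ => homOfLE inf_le_right)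
    (fun t ht => Opens.mem_iSup.mpr ((hV t).imp fun i hi => ⟨hi, ht⟩)) _ _ fun i => ?_
  let Z : T.Opens := V i ⊓ d.1.base ⁻¹ᵁ O x
  have hZ' : Z ≤ d'.1.base ⁻¹ᵁ O x := hb ▸ (inf_le_right : Z ≤ d.1.base ⁻¹ᵁ O x)
  have e : d.pull Z.ι = d'.pull Z.ι := by
    rw [← T.homOfLE_ι (inf_le_left : Z ≤ V i), pull_comp hW, pull_comp hW, h]
  have h1 : (⊤ : Z.toScheme.Opens) ≤ (d.pull Z.ι).1.base ⁻¹ᵁ O x := fun t _ => t.2.2
  have e1 := valOn_congr e h1 (e ▸ h1) (p x)
  rw [valOn_pull d (inf_le_right : Z ≤ _) h1, valOn_pull d' hZ'] at e1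
  change resO T (inf_le_right : Z ≤ _) _ = resO T (inf_le_right : Z ≤ _) (resO T _ _)
  rw [resO_resO]
  exact e1

include hW in
theorem frame_glue {ι : Type u} {P : ι → Scheme.{u}} (f : ∀ i, P i ⟶ T) [∀ i, IsOpenImmersion (f i)]
    (hcov : ∀ t : T, ∃ i x, (f i).base x = t) (c : ∀ i, Frame W (P i))
    (hc : ∀ (i j : ι) (Z : Scheme.{u}) (a : Z ⟶ P i) (b : Z ⟶ P j), a ≫ f i = b ≫ f j → (c i).pull a = (c j).pull b) :
    ∃! d : Frame W T, ∀ i, d.pull (f i) = c i := by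
  let 𝒰 : T.OpenCover := Scheme.Cover.mkOfCovers ι P f hcov
  let b : T ⟶ W.base := 𝒰.glueMorphisms (fun i => (c i).1.base)
    fun i j => congrArg (fun d : Frame W _ => d.1.base) (hc i j _ _ _ pullback.condition)
  have hb : ∀ i, f i ≫ b = (c i).1.base := fun i => 𝒰.ι_glueMorphisms _ _ i
  obtain ⟨O, p, hO, hp⟩ := exists_gens hW
  let V : ι × W.base → T.Opens := fun x => (f x.1).opensRange ⊓ b ⁻¹ᵁ O x.2
  let k : ∀ x : ι × W.base, (V x).toScheme ⟶ P x.1 := fun x => IsOpenImmersion.lift (f x.1) (V x).ι (by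
    rw [Scheme.Opens.range_ι]; exact fun t ht => ht.1)
  have hk : ∀ x, k x ≫ f x.1 = (V x).ι := fun x => IsOpenImmersion.lift_fac _ _ _
  let e : ∀ x : ι × W.base, Frame W (V x).toScheme := fun x => (c x.1).pull (k x)
  have he : ∀ x, (e x).1.base = (V x).ι ≫ b := fun x => by
    change k x ≫ (c x.1).1.base = _
    rw [← hb, ← Category.assoc, hk]
  have hTop : ∀ x, (⊤ : (V x).toScheme.Opens) ≤ (e x).1.base ⁻¹ᵁ O x.2 := fun x => by
    rw [he]
    exact fun t _ => t.2.2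
  let a : ∀ x, Γ(T, V x) := fun x => valOn (e x) (hTop x) (p x.2)
  have hcovV : ∀ t : T, ∃ x, t ∈ V x := fun t => by
    obtain ⟨i, x, rfl⟩ := hcov t
    exact ⟨(i, b.base ((f i).base x)), ⟨x, rfl⟩, hO _⟩
  obtain ⟨φ, hφ⟩ := exists_hom_gens (M := (Scheme.Modules.pullback b).obj (md W)) (N := Coh.structureModule T)
    (U := V) (e := fun x => res _ inf_le_right (ProjMor.eta b (md W) (O x.2) (p x.2))) (q := a) hcovV
    (fun x => (C1Cap.isGen_eta b (hp x.2)).res _) fun x y Z hx hy d hd => by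
      rw [res_res, res_res] at hd
      obtain ⟨r, hr⟩ := (hp y.2 (O x.2 ⊓ O y.2) inf_le_right).2 (res (md W) inf_le_left (p x.2))
      simp only at hr
      have hZ : Z ≤ b ⁻¹ᵁ (O x.2 ⊓ O y.2) := le_inf (hx.trans inf_le_right) (hy.trans inf_le_right)
      have hd' : d = ProjMor.ev b (O x.2 ⊓ O y.2) Z hZ r := by
        have hm := congrArg (fun s => res _ hZ (ProjMor.eta b (md W) (O x.2 ⊓ O y.2) s)) hr
        rw [ProjMor.res_eta_smul b (md W) hZ, ← ProjMor.eta_res, ← ProjMor.eta_res, res_res, res_res] at hm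
        exact ((C1Cap.isGen_eta b (hp y.2)) Z (hy.trans inf_le_right)).1 (hd.symm.trans hm.symm)
      change resO T hx (a x) = d * resO T hy (a y)
      have hgg : (e x).pull (T.homOfLE hx) = (e y).pull (T.homOfLE hy) := by
        change ((c x.1).pull (k x)).pull _ = ((c y.1).pull (k y)).pull _
        rw [← pull_comp hW, ← pull_comp hW]
        exact hc _ _ _ _ _ (by simp only [Category.assoc, hk, Scheme.homOfLE_ι])
      let D := (e y).pull (T.homOfLE hy)
      have hD : D.1.base = Z.ι ≫ b := by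
        change T.homOfLE hy ≫ (e y).1.base = _
        rw [he, Scheme.homOfLE_ι_assoc]
      have hxy : (⊤ : Z.toScheme.Opens) ≤ D.1.base ⁻¹ᵁ (O x.2 ⊓ O y.2) := by
        rw [hD]; exact fun t _ => hZ t.2
      rw [valOn_res hx, valOn_res hy, valOn_congr hgg _ (le_trans hxy (D.1.base.preimage_mono inf_le_left)),
        valOn_res_gen D inf_le_left _ hxy, ← hr, valOn_smul b hZ D hD hxy, hd',
        ← valOn_res_gen D inf_le_right _ hxy]
  haveI : IsIso φ := isIso_of_gens V _ hcovV (fun x => (C1Cap.isGen_eta b (hp x.2)).res _) φ fun x => by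
    rw [hφ]
    exact isGen_unit ((isUnit_tco (e x) (hTop x) (hp x.2)).map _)
  haveI hdi : IsIso (fib (mk' (X := uObj T) b (inv φ))) := inferInstanceAs (IsIso (inv φ))
  let d : Frame W T := ⟨mk' (X := uObj T) b (inv φ), hdi⟩
  have hd : ∀ x, d.pull (V x).ι = e x := fun x => by
    have h1 : (⊤ : (V x).toScheme.Opens) ≤ (d.pull (V x).ι).1.base ⁻¹ᵁ O x.2 := fun t _ => t.2.2
    refine tco_ext (he x).symm h1 (hTop x) (hp x.2) ?_
    have h2 : valOn (d.pull (V x).ι) h1 (p x.2) = a x := by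
      rw [valOn_pull d (inf_le_right : V x ≤ b ⁻¹ᵁ O x.2) h1, ← hφ x, ← app_res]
      exact congrArg (res (Coh.structureModule T) _) (pl_mk' (X' := uObj T) b φ _ _)
    exact (ConcreteCategory.bijective_of_isIso ((V x).topIso.hom)).1 h2
  refine ⟨d, fun i => ?_, fun d' hd' => ?_⟩
  · refine frame_ext_local hW (fun x : W.base => f i ⁻¹ᵁ V (i, x)) (fun s => ⟨b.base ((f i).base s), ⟨s, rfl⟩, hO _⟩)
      fun x => ?_
    let r : (f i ⁻¹ᵁ V (i, x)).toScheme ⟶ (V (i, x)).toScheme := f i ∣_ V (i, x)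
    have hr : r ≫ (V (i, x)).ι = (f i ⁻¹ᵁ V (i, x)).ι ≫ f i := morphismRestrict_ι _ _
    have hrk : r ≫ k (i, x) = (f i ⁻¹ᵁ V (i, x)).ι := by
      rw [← cancel_mono (f i), Category.assoc, hk (i, x), hr]
    rw [← pull_comp hW, ← hr, pull_comp hW, hd]
    change ((c i).pull (k (i, x))).pull r = _
    rw [← pull_comp hW, hrk]
  · refine frame_ext_local hW V hcovV fun x => ?_
    rw [hd, ← hk, pull_comp hW, hd']

/-- the functor of frames is a Zariski sheaf -/
theorem frameF_isSheaf : Presieve.IsSheaf Scheme.zariskiTopology (frameF hW) := by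
  refine (Precoverage.isSheaf_toGrothendieck_iff_of_isStableUnderBaseChange_of_small.{u} _).mpr fun T E => ?_
  rw [PreZeroHypercover.presieve₀, Presieve.isSheafFor_arrows_iff]
  intro x hx
  obtain ⟨hc, ho⟩ := (Scheme.ofArrows_mem_precoverage_iff _).mp E.mem₀
  haveI : ∀ i, IsOpenImmersion (E.f i) := ho
  exact frame_glue hW E.f hc x fun i j Z a b hab => hx i j Z a b hab

/-- the chart at a point -/
abbrev chartS (O : W.base.Opens) : Scheme.{u} := O.toScheme ⨯ gmS

theorem exists_univ (O : W.base.Opens) {p : Γ(md W, O)} (hp : IsGen p) :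
    ∃ (c : Frame W (chartS O)) (hb : c.1.base = (prod.fst : chartS O ⟶ _) ≫ O.ι),
      ∀ h, tco c h p = gmCoord (prod.snd : chartS O ⟶ gmS) := by
  obtain ⟨c, hb, hc⟩ := exists_frame_of_unit ((prod.fst : chartS O ⟶ _) ≫ O.ι)
    (fun t _ => ((prod.fst : chartS O ⟶ O.toScheme).base t).2) hp (gmCoord (prod.snd : chartS O ⟶ gmS)).isUnit
  exact ⟨c, hb, fun h => hc⟩

theorem existsUnique_classify {O : W.base.Opens} {p : Γ(md W, O)} (hp : IsGen p) {u₀ : Frame W (chartS O)}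
    (hb : u₀.1.base = (prod.fst : chartS O ⟶ _) ≫ O.ι)
    (hu : ∀ h, tco u₀ h p = gmCoord (prod.snd : chartS O ⟶ gmS)) (c : Frame W T)
    (h : (⊤ : T.Opens) ≤ c.1.base ⁻¹ᵁ O) : ∃! k : T ⟶ chartS O, u₀.pull k = c := by
  let v : T ⟶ O.toScheme := IsOpenImmersion.lift O.ι c.1.base (by
    rw [Scheme.Opens.range_ι]; rintro _ ⟨t, rfl⟩; exact h (x := t) trivial)
  have hv : v ≫ O.ι = c.1.base := IsOpenImmersion.lift_fac _ _ _
  obtain ⟨m, hm⟩ := exists_gmCoord (isUnit_tco c h hp).unit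
  have h₀ : (⊤ : (chartS O).Opens) ≤ u₀.1.base ⁻¹ᵁ O := by
    rw [hb]; exact fun t _ => ((prod.fst : chartS O ⟶ O.toScheme).base t).2
  refine ⟨prod.lift v m, ?_, fun k hk => ?_⟩
  · refine tco_ext ?_ (top_le_pull _ u₀ h₀) h hp ?_
    · change prod.lift v m ≫ u₀.1.base = _
      rw [hb, prod.lift_fst_assoc, hv]
    · rw [tco_pull _ u₀ h₀, hu, ← gmCoord_comp, prod.lift_snd, hm]
      rfl
  · have e1 : k ≫ u₀.1.base = c.1.base := congrArg (fun d : Frame W T => d.1.base) hk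
    refine Limits.prod.hom_ext ?_ ?_
    · rw [prod.lift_fst, ← cancel_mono O.ι, Category.assoc, ← hb, e1, hv]
    · rw [prod.lift_snd]
      refine gmCoord_injective (Units.ext ?_)
      rw [gmCoord_comp, ← hu h₀, ← tco_pull k u₀ h₀, hm]
      subst hk
      rfl

include hW in
/-- **frames are representable** -/
theorem exists_frameScheme :
    ∃ (P : Scheme.{u}) (c : Frame W P), ∀ (T : Scheme.{u}) (d : Frame W T), ∃! g : T ⟶ P, c.pull g = d := by
  obtain ⟨O, p, hO, hp⟩ := exists_gens hW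
  choose u₀ hb hu using fun x => exists_univ (O x) (hp x)
  let F : Sheaf Scheme.zariskiTopology (Type u) :=
    ⟨frameF hW, (isSheaf_iff_isSheaf_of_type _ _).mpr (frameF_isSheaf hW)⟩
  let ch : ∀ x, yoneda.obj (chartS (O x)) ⟶ F.1 := fun x => yonedaEquiv.symm (u₀ x)
  have hch : ∀ x, IsOpenImmersion.presheaf (ch x) := fun x => by
    refine MorphismProperty.relative.of_exists fun T g => ?_
    let z : Frame W T := yonedaEquiv g
    have hg : ∀ (Y : Scheme.{u}ᵒᵖ) (y : Y.unop ⟶ T), g.app Y y = z.pull y := fun Y y => by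
      conv_lhs => rw [← yonedaEquiv.symm_apply_apply g]
      rfl
    let U := z.1.base ⁻¹ᵁ O x
    obtain ⟨k, hk, -⟩ := existsUnique_classify (hp x) (hb x) (hu x) (z.pull U.ι) (fun t _ => t.2)
    refine ⟨U.toScheme, yoneda.map k, U.ι, ?_, inferInstance⟩
    refine IsPullback.of_forall_isPullback_app fun Y => ?_
    refine (Types.isPullback_iff _ _ _ _).mpr ⟨?_, ?_, ?_⟩
    · ext (a : Y.unop ⟶ U.toScheme)
      change (u₀ x).pull (a ≫ k) = g.app Y (a ≫ U.ι)
      rw [hg, pull_comp hW, hk, ← pull_comp hW]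
    · rintro (a : Y.unop ⟶ U.toScheme) (a' : Y.unop ⟶ U.toScheme) h
      exact (cancel_mono U.ι).mp h.2
    · rintro (a : Y.unop ⟶ chartS (O x)) (y : Y.unop ⟶ T) h
      rw [hg] at h
      change (u₀ x).pull a = z.pull y at h
      have hbb : a ≫ (u₀ x).1.base = y ≫ z.1.base := congrArg (fun d : Frame W _ => d.1.base) h
      have hr : Set.range y ⊆ Set.range U.ι := by
        rintro _ ⟨t, rfl⟩
        rw [Scheme.Opens.range_ι]
        change (y ≫ z.1.base).base t ∈ O x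
        rw [← hbb, hb]
        exact ((prod.fst : chartS (O x) ⟶ (O x).toScheme).base (a.base t)).2
      refine ⟨IsOpenImmersion.lift U.ι y hr, ?_, IsOpenImmersion.lift_fac _ _ _⟩
      change IsOpenImmersion.lift U.ι y hr ≫ k = a
      refine (existsUnique_classify (hp x) (hb x) (hu x) (z.pull y) (fun t _ => ?_)).unique ?_ h
      · change (y ≫ z.1.base).base t ∈ O x
        rw [← hbb, hb]
        exact ((prod.fst : chartS (O x) ⟶ (O x).toScheme).base (a.base t)).2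
      · rw [pull_comp hW, hk, ← pull_comp hW, IsOpenImmersion.lift_fac]
  haveI : Presheaf.IsLocallySurjective Scheme.zariskiTopology (Sigma.desc ch) := ⟨fun {T} (z : Frame W T) => by
    let U := fun t : T => z.1.base ⁻¹ᵁ O (z.1.base t)
    let 𝒰 : T.OpenCover := Scheme.Cover.mkOfCovers T (fun t => (U t).toScheme) (fun t => (U t).ι)
      fun t => ⟨t, ⟨t, hO _⟩, rfl⟩
    refine GrothendieckTopology.superset_covering _ ?_ 𝒰.mem_grothendieckTopology
    rintro V h ⟨_, a, _, ⟨t⟩, rfl⟩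
    obtain ⟨k, hk, -⟩ := existsUnique_classify (hp _) (hb _) (hu _) (z.pull (U t).ι) (fun s _ => s.2)
    refine ⟨(Sigma.ι (fun x => yoneda.obj (chartS (O x))) (z.1.base t)).app (op V) (a ≫ k), ?_⟩
    change ((Sigma.ι (fun x => yoneda.obj (chartS (O x))) (z.1.base t)) ≫ Sigma.desc ch).app (op V) (a ≫ k) = _
    rw [Sigma.ι_desc]
    change (u₀ _).pull (a ≫ k) = z.pull (a ≫ (U t).ι)
    rw [pull_comp hW, hk, ← pull_comp hW]⟩
  obtain ⟨P, ⟨r⟩⟩ := Scheme.LocalRepresentability.isRepresentable (F := F) (f := ch) hch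
  refine ⟨P, r.homEquiv (𝟙 P), fun T d => ⟨r.homEquiv.symm d, ?_, fun g hg => ?_⟩⟩
  · exact (r.homEquiv_eq _).symm.trans (r.homEquiv.apply_symm_apply d)
  · refine r.homEquiv.injective (((r.homEquiv_eq g).trans ?_).trans (r.homEquiv.apply_symm_apply d).symm)
    exact hg

end Groth.Agent.ThetaLib
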