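import Groth.Agent.ThetaLib.Sect
import Groth.Agent.LBDesc.Effective
import Groth.Agent.DQCoh.QCDescent

/-!
Invertible modules descend from an action of the kernel pair by cartesian morphisms.
-/

set_option autoImplicit false
set_option backward.isDefEq.respectTransparency false
set_option backward.isDefEq.respectTransparency.types false
set_option linter.style.haveILetI false
set_option maxHeartbeats 1000000

universe u

open CategoryTheory CategoryTheory.Limits AlgebraicGeometry TopologicalSpace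
open Groth.Agent.QC (res resO res_res res_smul resO_resO app_res res_self)
open ProjMor (ev ev_res ev_resO eta eta_res eta_smul)
open TMul (IsGen)

noncomputable section

namespace Groth.Agent.ThetaLib

theorem exists_descObj {X' X'' X₃ : Obj.{u}} {Y : Scheme.{u}} (g : X'.base ⟶ Y) [Flat g] [Surjective g]
    [QuasiCompact g] (π₁ π₂ : X'' ⟶ X') [IsIso (fib π₁)] [IsIso (fib π₂)]
    (hP : IsPullback π₁.base π₂.base g g) (q₁₂ q₂₃ q₁₃ : X₃ ⟶ X'')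
    [IsIso (fib q₁₂)] [IsIso (fib q₂₃)] [IsIso (fib q₁₃)]
    (h₁ : q₁₂ ≫ π₁ = q₁₃ ≫ π₁) (h₂ : q₁₂ ≫ π₂ = q₂₃ ≫ π₁) (h₃ : q₂₃ ≫ π₂ = q₁₃ ≫ π₂)
    (htri : ∀ {T : Scheme.{u}} (x y z : T ⟶ X'.base), x ≫ g = y ≫ g → y ≫ g = z ≫ g →
      ∃ w : T ⟶ X₃.base, w ≫ q₁₂.base ≫ π₁.base = x ∧ w ≫ q₁₂.base ≫ π₂.base = y ∧ w ≫ q₂₃.base ≫ π₂.base = z)
    (hX : PicF.IsInvertible (md X')) :
    ∃ M : Y.Modules, PicF.IsInvertible M ∧ Nonempty ((Scheme.Modules.pullback g).obj M ≅ md X') := by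
  choose O t hxO ht using fun x => TMul.exists_isGen hX x
  let θ : (Scheme.Modules.pullback π₁.base).obj (md X') ≅ (Scheme.Modules.pullback π₂.base).obj (md X') :=
    (asIso (fib π₁)).symm ≪≫ asIso (fib π₂)
  obtain ⟨th, hth⟩ := LBDesc.exists_isTh θ O t ht
  have hrel : ∀ α β, res (md X'') (inf_le_left : π₁.base ⁻¹ᵁ O α ⊓ π₂.base ⁻¹ᵁ O β ≤ _) (pl π₁ (O α) (t α)) =
      th α β • res (md X'') inf_le_right (pl π₂ (O β) (t β)) := fun α β => by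
    refine fib_app_injective π₂ _ ?_
    rw [Scheme.Modules.Hom.app_smul, ← app_res, ← app_res, fib_pl]
    exact hth α β
  haveI : IsIso (fib (q₁₂ ≫ π₁)) := isIso_fib_comp _ _
  haveI : IsIso (fib (q₁₂ ≫ π₂)) := isIso_fib_comp _ _
  haveI : IsIso (fib (q₁₃ ≫ π₁)) := isIso_fib_comp _ _
  haveI : IsIso (fib (q₁₃ ≫ π₂)) := isIso_fib_comp _ _
  haveI : IsIso (fib (q₂₃ ≫ π₁)) := isIso_fib_comp _ _
  haveI : IsIso (fib (q₂₃ ≫ π₂)) := isIso_fib_comp _ _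
  have hcoc : LBDesc.Coc hP th := by
    intro T x y z hxy hyz V α β γ' hx hy hz
    obtain ⟨w, hwx, hwy, hwz⟩ := htri x y z hxy hyz
    let P : X₃.base.Opens := (q₁₂ ≫ π₁).base ⁻¹ᵁ O α ⊓ ((q₁₂ ≫ π₂).base ⁻¹ᵁ O β ⊓ (q₂₃ ≫ π₂).base ⁻¹ᵁ O γ')
    have hb₁ : (q₁₂ ≫ π₁).base = (q₁₃ ≫ π₁).base := by rw [h₁]
    have hb₂ : (q₁₂ ≫ π₂).base = (q₂₃ ≫ π₁).base := by rw [h₂]
    have hb₃ : (q₂₃ ≫ π₂).base = (q₁₃ ≫ π₂).base := by rw [h₃]
    have l₁₂ : P ≤ q₁₂.base ⁻¹ᵁ (π₁.base ⁻¹ᵁ O α ⊓ π₂.base ⁻¹ᵁ O β) := inf_le_inf le_rfl inf_le_left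
    have a₂ : (q₁₂ ≫ π₂).base ⁻¹ᵁ O β ≤ (q₂₃ ≫ π₁).base ⁻¹ᵁ O β := by rw [hb₂]
    have a₁ : (q₁₂ ≫ π₁).base ⁻¹ᵁ O α ≤ (q₁₃ ≫ π₁).base ⁻¹ᵁ O α := by rw [hb₁]
    have a₃ : (q₂₃ ≫ π₂).base ⁻¹ᵁ O γ' ≤ (q₁₃ ≫ π₂).base ⁻¹ᵁ O γ' := by rw [hb₃]
    have l₂₃ : P ≤ q₂₃.base ⁻¹ᵁ (π₁.base ⁻¹ᵁ O β ⊓ π₂.base ⁻¹ᵁ O γ') := by
      rw [Scheme.Hom.preimage_inf]
      exact le_inf ((inf_le_right.trans inf_le_left).trans a₂) (inf_le_right.trans inf_le_right)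
    have l₁₃ : P ≤ q₁₃.base ⁻¹ᵁ (π₁.base ⁻¹ᵁ O α ⊓ π₂.base ⁻¹ᵁ O γ') := by
      rw [Scheme.Hom.preimage_inf]
      exact le_inf (inf_le_left.trans a₁) ((inf_le_right.trans inf_le_right).trans a₃)
    have e₁₂ := pl_rel q₁₂ π₁ π₂ inf_le_left inf_le_right l₁₂ (t α) (t β) (th α β) (hrel α β)
    have e₂₃ := pl_rel q₂₃ π₁ π₂ inf_le_left inf_le_right l₂₃ (t β) (t γ') (th β γ') (hrel β γ')
    have e₁₃ := pl_rel q₁₃ π₁ π₂ inf_le_left inf_le_right l₁₃ (t α) (t γ') (th α γ') (hrel α γ')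
    have c₂ := pl_congr h₂ (V := P) (inf_le_right.trans inf_le_left) (l₂₃.trans (q₂₃.base.preimage_mono inf_le_left)) (t β)
    have c₁ := pl_congr h₁ (V := P) inf_le_left (l₁₃.trans (q₁₃.base.preimage_mono inf_le_left)) (t α)
    have c₃ := pl_congr h₃ (V := P) (inf_le_right.trans inf_le_right) (l₁₃.trans (q₁₃.base.preimage_mono inf_le_right)) (t γ')
    erw [c₂, e₂₃, smul_smul, c₁, e₁₃, c₃] at e₁₂
    have key : ev q₁₃.base _ P l₁₃ (th α γ') = ev q₁₂.base _ P l₁₂ (th α β) * ev q₂₃.base _ P l₂₃ (th β γ') :=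
      (isGen_pl (q₁₃ ≫ π₂) (ht γ') P (l₁₃.trans (q₁₃.base.preimage_mono inf_le_right))).1 e₁₂
    have hV : V ≤ w ⁻¹ᵁ P := by
      simp only [P, Scheme.Hom.preimage_inf, ← Scheme.Hom.comp_preimage]
      refine le_inf ?_ (le_inf ?_ ?_)
      · rw [show w ≫ (q₁₂ ≫ π₁).base = x from hwx]; exact hx
      · rw [show w ≫ (q₁₂ ≫ π₂).base = y from hwy]; exact hy
      · rw [show w ≫ (q₂₃ ≫ π₂).base = z from hwz]; exact hz
    have e := congrArg (ev w P V hV) key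
    rw [map_mul, LBDesc.ev_comp, LBDesc.ev_comp, LBDesc.ev_comp] at e
    have hwy' : w ≫ q₂₃.base ≫ π₁.base = y := by
      rw [show q₂₃.base ≫ π₁.base = q₁₂.base ≫ π₂.base from hb₂.symm]; exact hwy
    have hwx' : w ≫ q₁₃.base ≫ π₁.base = x := by
      rw [show q₁₃.base ≫ π₁.base = q₁₂.base ≫ π₁.base from hb₁.symm]; exact hwx
    have hwz' : w ≫ q₁₃.base ≫ π₂.base = z := by
      rw [show q₁₃.base ≫ π₂.base = q₂₃.base ≫ π₂.base from hb₃.symm]; exact hwz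
    have hl : ∀ (q : X₃ ⟶ X'') (a b : T ⟶ X'.base) (hab : a ≫ g = b ≫ g), w ≫ q.base ≫ π₁.base = a →
        w ≫ q.base ≫ π₂.base = b → hP.lift a b hab = w ≫ q.base := fun q a b hab ha hb => by
      refine hP.hom_ext ?_ ?_
      · rw [hP.lift_fst, Category.assoc, ha]
      · rw [hP.lift_snd, Category.assoc, hb]
    unfold LBDesc.thp
    rw [LBDesc.ev_congr (hl q₁₂ x y hxy hwx hwy), LBDesc.ev_congr (hl q₂₃ y z hyz hwy' hwz),
      LBDesc.ev_congr (hl q₁₃ x z _ hwx' hwz')]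
    exact e.symm
  exact LBDesc.exists_descended hP θ (fun V hV => Groth.Agent.DQCoh.pieces_of_qc g V hV)
    (fun V => by
      haveI : Flat (g ∣_ V) := IsZariskiLocalAtTarget.restrict (P := @Flat) inferInstance V
      haveI : Surjective (g ∣_ V) := IsZariskiLocalAtTarget.restrict (P := @Surjective) inferInstance V
      haveI : QuasiCompact (g ∣_ V) := IsZariskiLocalAtTarget.restrict (P := @QuasiCompact) inferInstance V
      infer_instance) hX (fun x => ⟨x, hxO x⟩) ht hth hcoc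

end Groth.Agent.ThetaLib
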