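import Groth.Agent.ThetaLib.Cart
import Groth.Agent.AbPrim.Basic

/-!
Points of theta groups: translations, base change, commutator functions.
-/

set_option autoImplicit false
set_option backward.isDefEq.respectTransparency false
set_option backward.isDefEq.respectTransparency.types false
set_option linter.style.haveILetI false

universe u

open CategoryTheory CategoryTheory.Limits MonoidalCategory CartesianMonoidalCategory MonObj AlgebraicGeometry
open ThetaGrp (transl thetaObj thetaPts IsOverPt bcLift IsBaseChange transl_fst transl_snd transl_mul transl_one)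

noncomputable section

namespace Groth.Agent.ThetaLib

variable {S : Scheme.{u}} {A : Over S} [GrpObj A] {L : A.left.Modules} {T T' G : Over S}

theorem transl_injective : Function.Injective (fun x : T ⟶ A => (transl A x).left) := fun x y h => by
  have h' : transl A x = transl A y := Over.OverMorphism.ext h
  have := congrArg (fun m => lift (1 : T ⟶ A) (𝟙 T) ≫ m ≫ fst A T) h'
  simpa [MonObj.comp_mul] using this

instance isIso_transl (x : T ⟶ A) : IsIso (transl A x).left := by
  haveI : IsIso (transl A x) :=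
    ⟨transl A x⁻¹, by rw [← transl_mul, mul_inv_cancel, transl_one], by rw [← transl_mul, inv_mul_cancel, transl_one]⟩
  exact (Over.forget S).map_isIso (transl A x)

theorem transl_bc (g : T' ⟶ T) (x : T ⟶ A) : transl A (g ≫ x) ≫ (A ◁ g) = (A ◁ g) ≫ transl A x := by
  apply CartesianMonoidalCategory.hom_ext
  · rw [Category.assoc, Category.assoc, whiskerLeft_fst, transl_fst, transl_fst, MonObj.comp_mul, whiskerLeft_fst,
      whiskerLeft_snd_assoc]
  · rw [Category.assoc, Category.assoc, whiskerLeft_snd, transl_snd, whiskerLeft_snd, reassoc_of% (transl_snd A (g ≫ x))]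

/-- The morphism underlying a point. -/
abbrev hm (α : thetaPts A L T) : (thetaObj A L T : Obj.{u}) ⟶ thetaObj A L T := α.1.hom

theorem pts_ext {α β : thetaPts A L T} (h : hm α = hm β) : α = β := Subtype.ext (Iso.ext h)

theorem exists_pt (α : thetaPts A L T) : ∃ x : T ⟶ A, IsOverPt α x := α.2

theorem pt_unique {α : thetaPts A L T} {x y : T ⟶ A} (hx : IsOverPt α x) (hy : IsOverPt α y) : x = y :=
  transl_injective (hx.symm.trans hy)

theorem hm_mul (α β : thetaPts A L T) : hm (α * β) = hm β ≫ hm α := rfl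

theorem isOverPt_mul {α β : thetaPts A L T} {x y : T ⟶ A} (hx : IsOverPt α x) (hy : IsOverPt β y) :
    IsOverPt (α * β) (y * x) := by
  change (hm β).base ≫ (hm α).base = _
  rw [show (hm α).base = _ from hx, show (hm β).base = _ from hy, transl_mul, Over.comp_left]

theorem isOverPt_one : IsOverPt (1 : thetaPts A L T) 1 := by
  change 𝟙 _ = _
  rw [transl_one]
  rfl

instance isIso_fib_hm (α : thetaPts A L T) : IsIso (fib (hm α)) := isIso_fib_of_iso α.1

theorem exists_of_hom (x : T ⟶ A) (f : (thetaObj A L T : Obj.{u}) ⟶ thetaObj A L T) (hb : f.base = (transl A x).left)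
    [IsIso (fib f)] : ∃ α : thetaPts A L T, hm α = f ∧ IsOverPt α x := by
  haveI : IsIso f.base := hb ▸ isIso_transl x
  haveI := isIso_of_parts f
  exact ⟨⟨asIso f, x, hb⟩, rfl, hb⟩

theorem exists_of_iso (x : T ⟶ A) (φ : (Scheme.Modules.pullback (fst A T).left).obj L ≅
    (Scheme.Modules.pullback (transl A x).left).obj ((Scheme.Modules.pullback (fst A T).left).obj L)) :
    ∃ α : thetaPts A L T, IsOverPt α x := by
  haveI : IsIso (fib (X := (thetaObj A L T : Obj.{u})) (Y := thetaObj A L T) (mk' (transl A x).left φ.hom)) :=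
    inferInstanceAs (IsIso φ.hom)
  obtain ⟨α, -, hα⟩ := exists_of_hom (L := L) x (mk' (transl A x).left φ.hom) rfl
  exact ⟨α, hα⟩

instance isIso_fib_bcLift (g : T' ⟶ T) : IsIso (fib (bcLift A L g)) :=
  inferInstanceAs (IsIso ((Scheme.Modules.pullbackCongr _).hom.app L ≫
    (Scheme.Modules.pullbackComp (A ◁ g).left (fst A T).left).inv.app L))

theorem exists_bc (g : T' ⟶ T) {u : thetaPts A L T} {x : T ⟶ A} (hx : IsOverPt u x) :
    ∃ β : thetaPts A L T', IsBaseChange β g u ∧ IsOverPt β (g ≫ x) := by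
  obtain ⟨k, hk, hkφ⟩ := exists_lift (bcLift A L g) (bcLift A L g ≫ hm u) (transl A (g ≫ x)).left (by
    change _ ≫ (A ◁ g).left = (A ◁ g).left ≫ (hm u).base
    rw [show (hm u).base = _ from hx, ← Over.comp_left, transl_bc, Over.comp_left])
  haveI : IsIso (fib (bcLift A L g ≫ hm u)) := isIso_fib_comp _ _
  haveI : IsIso (fib (k ≫ bcLift A L g)) := isIso_fib_congr hkφ.symm
  haveI : IsIso (fib k) := by
    have h : IsIso (fib (k ≫ bcLift A L g)) := inferInstance
    rw [fib_comp] at h
    exact IsIso.of_isIso_comp_right (fib k) ((Scheme.Modules.pullback k.base).map (fib (bcLift A L g)) ≫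
      (Scheme.Modules.pullbackComp k.base (bcLift A L g).base).hom.app (md (thetaObj A L T : Obj.{u})))
  obtain ⟨β, hβ, hβx⟩ := exists_of_hom (L := L) (g ≫ x) k hk
  refine ⟨β, ?_, hβx⟩
  change hm β ≫ bcLift A L g = _
  rw [hβ, hkφ]

theorem isOverPt_of_bc {β : thetaPts A L T'} {g : T' ⟶ T} {u : thetaPts A L T} {x : T ⟶ A} (hx : IsOverPt u x)
    (h : IsBaseChange β g u) : IsOverPt β (g ≫ x) := by
  obtain ⟨y, hy⟩ := exists_pt β
  obtain rfl : y = g ≫ x := by
    have h0 : (transl A y).left ≫ (A ◁ g).left = (A ◁ g).left ≫ (transl A x).left := by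
      rw [← show (hm β).base = _ from hy, ← show (hm u).base = _ from hx]
      exact congrArg (fun m => Pseudofunctor.CoGrothendieck.Hom.base m) h
    have h1 : transl A y ≫ (A ◁ g) = transl A (g ≫ x) ≫ (A ◁ g) := by
      rw [transl_bc]
      exact Over.OverMorphism.ext h0
    have := congrArg (fun m => lift (1 : T' ⟶ A) (𝟙 T') ≫ m ≫ fst A T) h1
    simpa [MonObj.comp_mul] using this
  exact hy

theorem bc_unique {β β' : thetaPts A L T'} {g : T' ⟶ T} {u : thetaPts A L T} (h : IsBaseChange β g u)
    (h' : IsBaseChange β' g u) : β = β' := by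
  obtain ⟨x, hx⟩ := exists_pt u
  refine pts_ext (cancel_cart (bcLift A L g) ?_ (h.trans h'.symm))
  rw [show (hm β).base = _ from isOverPt_of_bc hx h, show (hm β').base = _ from isOverPt_of_bc hx h']

theorem bc_mul {β₁ β₂ : thetaPts A L T'} {g : T' ⟶ T} {u₁ u₂ : thetaPts A L T} (h₁ : IsBaseChange β₁ g u₁)
    (h₂ : IsBaseChange β₂ g u₂) : IsBaseChange (β₁ * β₂) g (u₁ * u₂) := by
  change (hm β₂ ≫ hm β₁) ≫ bcLift A L g = bcLift A L g ≫ hm u₂ ≫ hm u₁
  rw [Category.assoc, show hm β₁ ≫ _ = _ from h₁, ← Category.assoc, show hm β₂ ≫ _ = _ from h₂, Category.assoc]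

/-- A function of the parameter, as a function on the product. -/
def fnT (A T : Over S) (t : Γ(T.left, ⊤)) : Γ((A ⊗ T).left, ⊤) := (snd A T).left.appTop t

omit [GrpObj A] in
theorem fnT_one (T : Over S) : fnT A T 1 = 1 := map_one _

omit [GrpObj A] in
theorem fnT_natural (g : T' ⟶ T) (t : Γ(T.left, ⊤)) :
    (A ◁ g).left.appTop (fnT A T t) = fnT A T' (g.left.appTop t) := by
  change ((snd A T).left.appTop ≫ (A ◁ g).left.appTop) t = (g.left.appTop ≫ (snd A T').left.appTop) t
  rw [← Scheme.Hom.comp_appTop, ← Scheme.Hom.comp_appTop, ← Over.comp_left, ← Over.comp_left, whiskerLeft_snd]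

theorem fnT_transl (x : T ⟶ A) (t : Γ(T.left, ⊤)) : (transl A x).left.appTop (fnT A T t) = fnT A T t := by
  change ((snd A T).left.appTop ≫ (transl A x).left.appTop) t = _
  rw [← Scheme.Hom.comp_appTop, ← Over.comp_left, transl_snd]
  rfl

omit [GrpObj A] in
theorem fnT_injective (s : T ⟶ A) : Function.Injective (fnT A T) := fun a b h => by
  have := congrArg (fun e => (lift s (𝟙 T)).left.appTop e) h
  change ((snd A T).left.appTop ≫ (lift s (𝟙 T)).left.appTop) a =
    ((snd A T).left.appTop ≫ (lift s (𝟙 T)).left.appTop) b at this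
  rwa [← Scheme.Hom.comp_appTop, ← Over.comp_left, lift_snd, Over.id_left, Scheme.Hom.id_appTop] at this

/-- The commutator of two points is the given function of the parameter. -/
def IsCom (α β : thetaPts A L T) (t : Γ(T.left, ⊤)) : Prop :=
  hm (α * β) = act (fnT A T t) (hm (β * α))

variable (hL : PicF.IsInvertible L)

omit [GrpObj A] in
include hL in
theorem isInvertible_md (T : Over S) : PicF.IsInvertible (md (thetaObj A L T : Obj.{u})) :=
  PicLoc.isInvertible_pullback _ hL

include hL in
theorem isCom_unique {α β : thetaPts A L T} {t t' : Γ(T.left, ⊤)} (h : IsCom α β t) (h' : IsCom α β t') : t = t' :=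
  fnT_injective (1 : T ⟶ A) (act_injective (isInvertible_md hL T) (hm (β * α)) (h.symm.trans h'))

include hL in
theorem isCom_one_iff {α β : thetaPts A L T} : IsCom α β 1 ↔ α * β = β * α := by
  rw [IsCom, fnT_one, act_one]
  exact ⟨pts_ext, congrArg hm⟩

theorem isCom_bc {α β : thetaPts A L T} {α' β' : thetaPts A L T'} {g : T' ⟶ T} {t : Γ(T.left, ⊤)}
    (hα : IsBaseChange α' g α) (hβ : IsBaseChange β' g β) (h : IsCom α β t) : IsCom α' β' (g.left.appTop t) := by
  refine cancel_cart (bcLift A L g) ?_ ?_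
  · obtain ⟨x, hx⟩ := exists_pt α
    obtain ⟨y, hy⟩ := exists_pt β
    have hx' := isOverPt_of_bc hx hα
    have hy' := isOverPt_of_bc hy hβ
    rw [act_base, show (hm (α' * β')).base = _ from isOverPt_mul hx' hy',
      show (hm (β' * α')).base = _ from isOverPt_mul hy' hx']
    have hb := congrArg (fun m => Pseudofunctor.CoGrothendieck.Hom.base m) h
    rw [act_base] at hb
    rw [show (hm (α * β)).base = _ from isOverPt_mul hx hy, show (hm (β * α)).base = _ from isOverPt_mul hy hx] at hb
    rw [← MonObj.comp_mul, ← MonObj.comp_mul, transl_injective hb]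
  · rw [act_comp, show hm (α' * β') ≫ _ = _ from bc_mul hα hβ, show hm (β' * α') ≫ _ = _ from bc_mul hβ hα]
    change bcLift A L g ≫ hm (α * β) = _
    rw [h, comp_act, ← fnT_natural]
    rfl

variable (hΓ : ∀ T : Over S, Function.Surjective (fnT A T))

include hL hΓ in
theorem exists_eq_act_pts {α α' : thetaPts A L T} {x : T ⟶ A} (hx : IsOverPt α x) (hx' : IsOverPt α' x) :
    ∃ t : Γ(T.left, ⊤), hm α' = act (fnT A T t) (hm α) := by
  obtain ⟨a, ha⟩ := exists_eq_act (isInvertible_md hL T) (hm α') (hm α) (hx'.trans hx.symm)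
  obtain ⟨t, rfl⟩ := hΓ T a
  exact ⟨t, ha⟩

include hL hΓ in
theorem isCom_indep {α α' β β' : thetaPts A L T} {x y : T ⟶ A} (hx : IsOverPt α x) (hx' : IsOverPt α' x)
    (hy : IsOverPt β y) (hy' : IsOverPt β' y) {t : Γ(T.left, ⊤)} (h : IsCom α β t) : IsCom α' β' t := by
  obtain ⟨c, hc⟩ := exists_eq_act_pts hL hΓ hx hx'
  obtain ⟨d, hd⟩ := exists_eq_act_pts hL hΓ hy hy'
  change hm β' ≫ hm α' = act _ (hm α' ≫ hm β')
  rw [IsCom, hm_mul, hm_mul] at h
  rw [hc, hd, act_comp, act_comp, comp_act, comp_act, show (hm β).base = _ from hy,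
    show (hm α).base = _ from hx, fnT_transl, fnT_transl, h, ← act_mul, ← act_mul, ← act_mul, ← act_mul]
  congr 1
  ring

variable [IsCommMonObj A]

include hL hΓ in
theorem exists_com (α β : thetaPts A L T) : ∃ t : Γ(T.left, ⊤), IsCom α β t := by
  obtain ⟨x, hx⟩ := exists_pt α
  obtain ⟨y, hy⟩ := exists_pt β
  have h := isOverPt_mul hx hy
  rw [_root_.mul_comm y x] at h
  exact exists_eq_act_pts hL hΓ (isOverPt_mul hy hx) h

include hL hΓ in
theorem isCom_self {α β : thetaPts A L T} {x : T ⟶ A} (hx : IsOverPt α x) (hy : IsOverPt β x) : IsCom α β 1 :=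
  isCom_indep hL hΓ hx hx hx hy ((isCom_one_iff hL).2 rfl)

end Groth.Agent.ThetaLib
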