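import Groth.Agent.ThetaLib.Proj
import Groth.Agent.ThetaLib.HomGen
import Groth.Agent.QC.PullSect
import Groth.Agent.C1Cap.PullGen

/-!
Inverse images of sections along cartesian morphisms.
-/

set_option autoImplicit false
set_option backward.isDefEq.respectTransparency false
set_option backward.isDefEq.respectTransparency.types false
set_option linter.style.haveILetI false

universe u

open CategoryTheory CategoryTheory.Limits AlgebraicGeometry TopologicalSpace
open Groth.Agent.QC (res resO res_res res_smul resO_resO app_res res_self section_eq_of_locally)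
open ProjMor (ev ev_res eta eta_res eta_smul)
open TMul (IsGen)

noncomputable section

namespace Groth.Agent.ThetaLib

variable {X Y Z : Obj.{u}}

/-- the inverse image of a section along a cartesian morphism -/
def pl (f : X ⟶ Y) [IsIso (fib f)] (U : Y.base.Opens) (s : Γ(md Y, U)) : Γ(md X, f.base ⁻¹ᵁ U) :=
  (inv (fib f)).app _ (eta f.base (md Y) U s)

theorem fib_pl (f : X ⟶ Y) [IsIso (fib f)] (U : Y.base.Opens) (s : Γ(md Y, U)) :
    (fib f).app _ (pl f U s) = eta f.base (md Y) U s :=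
  congrArg (fun φ : (Scheme.Modules.pullback f.base).obj (md Y) ⟶ _ => φ.app _ (eta f.base (md Y) U s))
    (IsIso.inv_hom_id (fib f))

theorem fib_app_injective (f : X ⟶ Y) [IsIso (fib f)] (V : X.base.Opens) : Function.Injective ((fib f).app V) := by
  intro a b h
  have := congrArg ((inv (fib f)).app V) h
  rwa [← ConcreteCategory.comp_apply, ← ConcreteCategory.comp_apply, ← Scheme.Modules.Hom.comp_app,
    IsIso.hom_inv_id] at this

theorem pl_smul (f : X ⟶ Y) [IsIso (fib f)] (U : Y.base.Opens) (c : Γ(Y.base, U)) (s : Γ(md Y, U)) :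
    pl f U (c • s) = f.base.app U c • pl f U s := by
  rw [pl, pl, eta_smul, Scheme.Modules.Hom.app_smul]

theorem pl_res (f : X ⟶ Y) [IsIso (fib f)] {U V : Y.base.Opens} (h : V ≤ U) (s : Γ(md Y, U)) :
    res (md X) (f.base.preimage_mono h) (pl f U s) = pl f V (res (md Y) h s) := by
  rw [pl, pl, app_res, eta_res]

theorem res_pl_smul (f : X ⟶ Y) [IsIso (fib f)] {U : Y.base.Opens} {V : X.base.Opens} (h : V ≤ f.base ⁻¹ᵁ U)
    (c : Γ(Y.base, U)) (s : Γ(md Y, U)) :
    res (md X) h (pl f U (c • s)) = ev f.base U V h c • res (md X) h (pl f U s) := by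
  rw [pl_smul, res_smul]
  congr 1

theorem isGen_pl (f : X ⟶ Y) [IsIso (fib f)] {U : Y.base.Opens} {s : Γ(md Y, U)} (hs : IsGen s) :
    IsGen (pl f U s) :=
  MeroLib.IsGen.map_iso _ (C1Cap.isGen_eta f.base hs)

theorem pl_comp (f : X ⟶ Y) (g : Y ⟶ Z) [IsIso (fib f)] [IsIso (fib g)] [IsIso (fib (f ≫ g))] (U : Z.base.Opens)
    (s : Γ(md Z, U)) : pl (f ≫ g) U s = pl f (g.base ⁻¹ᵁ U) (pl g U s) := by
  refine fib_app_injective (f ≫ g) _ ((fib_pl (f ≫ g) U s).trans ?_)
  symm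
  change ((Scheme.Modules.pullbackComp f.base g.base).hom.app (md Z)).app (f.base ⁻¹ᵁ (g.base ⁻¹ᵁ U))
    (((Scheme.Modules.pullback f.base).map (fib g)).app (f.base ⁻¹ᵁ (g.base ⁻¹ᵁ U))
      ((fib f).app _ (pl f (g.base ⁻¹ᵁ U) (pl g U s)))) = _
  rw [fib_pl]
  erw [QC.app_pullSect f.base (fib g) (g.base ⁻¹ᵁ U) (pl g U s)]
  rw [fib_pl]
  exact QC.pullbackComp_hom_pullSect f.base g.base (md Z) U s

theorem pl_congr {f f' : X ⟶ Y} [IsIso (fib f)] [IsIso (fib f')] (h : f = f') {U : Y.base.Opens}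
    {V : X.base.Opens} (hV : V ≤ f.base ⁻¹ᵁ U) (hV' : V ≤ f'.base ⁻¹ᵁ U) (s : Γ(md Y, U)) :
    res (md X) hV (pl f U s) = res (md X) hV' (pl f' U s) := by
  subst h
  rfl

/-- transporting a relation of inverse images -/
theorem pl_rel {W : Obj.{u}} (π : W ⟶ X) (h : X ⟶ Y) (φ : X ⟶ Z) [IsIso (fib π)] [IsIso (fib h)] [IsIso (fib φ)]
    [IsIso (fib (π ≫ h))] [IsIso (fib (π ≫ φ))]
    {U : Y.base.Opens} {D : Z.base.Opens} {V : X.base.Opens} {P : W.base.Opens} (hU : V ≤ h.base ⁻¹ᵁ U)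
    (hD : V ≤ φ.base ⁻¹ᵁ D) (hP : P ≤ π.base ⁻¹ᵁ V) (w : Γ(md Y, U)) (p : Γ(md Z, D)) (c : Γ(X.base, V))
    (e : res (md X) hU (pl h U w) = c • res (md X) hD (pl φ D p)) :
    res (md W) (hP.trans (π.base.preimage_mono hU) : P ≤ (π ≫ h).base ⁻¹ᵁ U) (pl (π ≫ h) U w) =
      ev π.base V P hP c •
        res (md W) (hP.trans (π.base.preimage_mono hD) : P ≤ (π ≫ φ).base ⁻¹ᵁ D) (pl (π ≫ φ) D p) := by
  rw [pl_comp, pl_comp]
  erw [← res_res (md W) hP (π.base.preimage_mono hU), pl_res π hU, e, res_pl_smul π hP,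
    ← pl_res π hD, res_res]
  rfl

/-- cartesian morphisms are determined by inverse images of sections -/
theorem cart_ext {f f' : X ⟶ Y} [IsIso (fib f)] [IsIso (fib f')] (hb : f.base = f'.base)
    (h : ∀ (U : Y.base.Opens) (s : Γ(md Y, U)),
      pl f U s = res (md X) (le_of_eq (by rw [hb])) (pl f' U s)) (hY : PicF.IsInvertible (md Y)) : f = f' := by
  obtain ⟨b, a⟩ := f
  obtain ⟨b', a'⟩ := f'
  obtain rfl : b = b' := hb
  haveI : IsIso (a : md X ⟶ _) := inferInstanceAs (IsIso (fib (mk' b (a : md X ⟶ _))))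
  haveI : IsIso (a' : md X ⟶ _) := inferInstanceAs (IsIso (fib (mk' b (a' : md X ⟶ _))))
  choose O t hO ht using fun y => TMul.exists_isGen hY y
  have key : inv (a : md X ⟶ _) = inv (a' : md X ⟶ _) :=
    hom_ext_gens (fun y => b ⁻¹ᵁ O y) (fun y => eta b (md Y) (O y) (t y)) (fun x => ⟨b.base x, hO _⟩)
      (fun y => C1Cap.isGen_eta b (ht y)) fun y => (h (O y) (t y)).trans (res_self _ _ _)
  change mk' b (a : md X ⟶ _) = mk' b (a' : md X ⟶ _)
  congr 1
  exact IsIso.inv_eq_inv.1 key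

theorem pl_mk' {X' : Obj.{u}} (b : X'.base ⟶ Y.base) (κ : (Scheme.Modules.pullback b).obj (md Y) ⟶ md X') [IsIso κ]
    [IsIso (fib (mk' b (inv κ)))] (U : Y.base.Opens) (s : Γ(md Y, U)) :
    pl (mk' b (inv κ)) U s = κ.app _ (eta b (md Y) U s) := by
  refine fib_app_injective _ _ ((fib_pl _ U s).trans ?_)
  exact (congrArg (fun φ : (Scheme.Modules.pullback b).obj (md Y) ⟶ _ => φ.app _ (eta b (md Y) U s))
    (IsIso.hom_inv_id κ)).symm

end Groth.Agent.ThetaLib
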